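import Mathlib
import Cfsg.Prelude.Def_Characters

set_option autoImplicit false

namespace Cfsg.Agent.Lib.Helper3

open Representation

universe u v w

variable {G : Type u} [Group G]

section transport

variable {k : Type*} [Field k] {V : Type v} {W : Type w} [AddCommGroup V] [Module k V]
  [AddCommGroup W] [Module k W]

/-- Transport a representation along a linear equivalence. -/
def transportRep (ρ : Representation k G V) (e : V ≃ₗ[k] W) : Representation k G W :=
  (e.conjRingEquiv : Module.End k V ≃+* Module.End k W).toMonoidHom.comp ρ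

theorem transportRep_apply (ρ : Representation k G V) (e : V ≃ₗ[k] W) (g : G) (w : W) :
    transportRep ρ e g w = e (ρ g (e.symm w)) := rfl

/-- The transported representation is equivalent to the original one. -/
def transportRepEquiv (ρ : Representation k G V) (e : V ≃ₗ[k] W) :
    ρ.Equiv (transportRep ρ e) :=
  Representation.Equiv.mk e (fun g => by
    ext v
    simp [transportRep_apply])

/-- Irreducibility passes along an equivalence of representations. -/
theorem isIrreducible_of_equiv {ρ : Representation k G V} {σ : Representation k G W}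
    (φ : ρ.Equiv σ) [hρ : ρ.IsIrreducible] : σ.IsIrreducible := by
  rw [irreducible_iff_isSimpleModule_asModule] at hρ ⊢
  let f : σ.asModule →ₗ[MonoidAlgebra k G] ρ.asModule :=
    IntertwiningMap.equivLinearMapAsModule σ ρ φ.symm.toIntertwiningMap
  have hf : Function.Bijective f := by
    show Function.Bijective (φ.symm : W → V)
    exact φ.symm.toLinearEquiv.bijective
  exact IsSimpleModule.congr (LinearEquiv.ofBijective f hf)

end transport



section toFin

variable {V : Type v} [AddCommGroup V] [Module ℂ V] [FiniteDimensional ℂ V]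

/-- The character of any finite-dimensional complex representation is a character. -/
theorem isCharacter_character (ρ : Representation ℂ G V) : Cfsg.IsCharacter G ρ.character := by
  let e : V ≃ₗ[ℂ] (Fin (Module.finrank ℂ V) → ℂ) := (Module.finBasis ℂ V).equivFun
  exact ⟨Module.finrank ℂ V, transportRep ρ e, (char_iso (transportRepEquiv ρ e)).symm⟩

/-- The character of any irreducible finite-dimensional complex representation is an
irreducible character. -/
theorem isIrrCharacter_character (ρ : Representation ℂ G V) [ρ.IsIrreducible] :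
    Cfsg.IsIrrCharacter G ρ.character := by
  let e : V ≃ₗ[ℂ] (Fin (Module.finrank ℂ V) → ℂ) := (Module.finBasis ℂ V).equivFun
  exact ⟨Module.finrank ℂ V, transportRep ρ e, isIrreducible_of_equiv (transportRepEquiv ρ e),
    (char_iso (transportRepEquiv ρ e)).symm⟩

theorem isCharacter_of_irr {χ : G → ℂ} (h : Cfsg.IsIrrCharacter G χ) :
    Cfsg.IsCharacter G χ := by
  obtain ⟨n, ρ, _, h⟩ := h
  exact ⟨n, ρ, h⟩

theorem isClassFunction_of_isCharacter {χ : G → ℂ} (h : Cfsg.IsCharacter G χ) :
    Cfsg.IsClassFunction G χ := by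
  obtain ⟨n, ρ, rfl⟩ := h
  intro g h
  exact char_conj ρ g h

end toFin

section ortho

variable [Fintype G]

/-- The bilinear pairing of two functions on a finite group. -/
noncomputable def pair (f h : G → ℂ) : ℂ := (Nat.card G : ℂ)⁻¹ * ∑ g : G, f g * h g⁻¹

theorem card_ne_zero' : (Nat.card G : ℂ) ≠ 0 := by
  simp [Nat.card_eq_fintype_card]

/-- Orthonormality of the irreducible characters, diagonal part. -/
theorem pair_irr_self {χ : G → ℂ} (hχ : Cfsg.IsIrrCharacter G χ) : pair χ χ = 1 := by
  obtain ⟨n, ρ, hρ, rfl⟩ := hχ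
  have : Invertible (Nat.card G : ℂ) := invertibleOfNonzero card_ne_zero'
  have h2 := char_orthonormal ρ ρ
  rw [if_pos ⟨Representation.Equiv.refl ρ⟩] at h2
  exact h2

/-- Orthonormality of the irreducible characters, off-diagonal part. -/
theorem pair_irr_ne {χ ψ : G → ℂ} (hχ : Cfsg.IsIrrCharacter G χ) (hψ : Cfsg.IsIrrCharacter G ψ)
    (h : χ ≠ ψ) : pair χ ψ = 0 := by
  obtain ⟨n, ρ, hρ, rfl⟩ := hχ
  obtain ⟨m, σ, hσ, rfl⟩ := hψ
  have : Invertible (Nat.card G : ℂ) := invertibleOfNonzero card_ne_zero'
  have h1 := char_orthonormal ρ σ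
  rw [if_neg] at h1
  · exact h1
  · rintro ⟨φ⟩
    exact h (char_iso φ).symm

end ortho




section opsum

variable [Fintype G] {V : Type v} [AddCommGroup V] [Module ℂ V]

/-- The operator `∑ g, f g • ρ g`. -/
noncomputable def opSum (ρ : Representation ℂ G V) (f : G → ℂ) : V →ₗ[ℂ] V :=
  ∑ g : G, f g • ρ g

theorem opSum_comm (ρ : Representation ℂ G V) {f : G → ℂ} (hf : Cfsg.IsClassFunction G f)
    (h : G) : opSum ρ f ∘ₗ ρ h = ρ h ∘ₗ opSum ρ f := by
  unfold opSum
  rw [← Module.End.mul_eq_comp, ← Module.End.mul_eq_comp, Finset.sum_mul, Finset.mul_sum]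
  simp only [Module.End.mul_eq_comp]
  have e1 : ∀ g : G, (f g • ρ g) ∘ₗ ρ h = f g • ρ (g * h) := by
    intro g; rw [LinearMap.smul_comp, map_mul]; rfl
  have e2 : ∀ g : G, ρ h ∘ₗ (f g • ρ g) = f g • ρ (h * g) := by
    intro g; rw [LinearMap.comp_smul, map_mul]; rfl
  simp only [e1, e2]
  refine Fintype.sum_equiv (Equiv.mulRight h |>.trans (Equiv.mulLeft h⁻¹)) _ _ ?_
  intro g
  simp only [Equiv.trans_apply, Equiv.coe_mulRight, Equiv.coe_mulLeft]
  have := hf g h⁻¹
  simp only [inv_inv] at this
  rw [← mul_assoc, this]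
  simp [mul_assoc]

theorem trace_opSum [FiniteDimensional ℂ V] (ρ : Representation ℂ G V) (f : G → ℂ) :
    LinearMap.trace ℂ V (opSum ρ f) = ∑ g : G, f g * ρ.character g := by
  unfold opSum
  rw [map_sum]
  simp [Representation.character]

/-- Schur: the operator of a class function on an irreducible representation is a scalar,
which vanishes if the trace does. -/
theorem opSum_eq_zero_of_irr [FiniteDimensional ℂ V] (ρ : Representation ℂ G V) [ρ.IsIrreducible]
    {f : G → ℂ} (hf : Cfsg.IsClassFunction G f) (h0 : ∑ g : G, f g * ρ.character g = 0) :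
    opSum ρ f = 0 := by
  let T : IntertwiningMap ρ ρ := ⟨opSum ρ f, fun h => opSum_comm ρ hf h⟩
  obtain ⟨c, hc⟩ := (IsIrreducible.algebraMap_intertwiningMap_bijective_of_isAlgClosed (ρ := ρ)).2 T
  have hT : opSum ρ f = c • LinearMap.id := by
    have := congrArg IntertwiningMap.toLinearMap hc
    exact this.symm
  have htr := trace_opSum ρ f
  rw [h0, hT, map_smul, LinearMap.trace_id, smul_eq_mul] at htr
  have hpos : (Module.finrank ℂ V : ℂ) ≠ 0 := by
    have hnt : Nontrivial V := by
      by_contra hV
      rw [not_nontrivial_iff_subsingleton] at hV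
      have : (⊥ : Subrepresentation ρ) = ⊤ := by
        apply Subrepresentation.toSubmodule_injective
        exact Subsingleton.elim _ _
      exact bot_ne_top this
    exact_mod_cast (Module.finrank_pos (R := ℂ) (M := V)).ne'
  have hc0 : c = 0 := by
    rcases mul_eq_zero.mp htr with h | h
    · exact h
    · exact absurd h hpos
  rw [hT, hc0, zero_smul]

end opsum




section key

variable [Fintype G]

/-- The group-algebra element attached to a function. -/
noncomputable def zOf (f : G → ℂ) : MonoidAlgebra ℂ G := ∑ g : G, MonoidAlgebra.single g (f g)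

theorem asAlgebraHom_zOf {V : Type v} [AddCommGroup V] [Module ℂ V] (ρ : Representation ℂ G V)
    (f : G → ℂ) : ρ.asAlgebraHom (zOf f) = opSum ρ f := by
  unfold zOf opSum
  rw [map_sum]
  simp [asAlgebraHom_single]

set_option backward.isDefEq.respectTransparency false in
theorem finite_restrictScalars_submodule (S : Submodule (MonoidAlgebra ℂ G) (MonoidAlgebra ℂ G)) :
    Module.Finite ℂ (RestrictScalars ℂ (MonoidAlgebra ℂ G) S) := by
  let _ := RestrictScalars.moduleOrig ℂ (MonoidAlgebra ℂ G) S
  have h1 : Module.Finite ℂ (MonoidAlgebra ℂ G) := inferInstance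
  have h2 : Module.Finite (MonoidAlgebra ℂ G) (RestrictScalars ℂ (MonoidAlgebra ℂ G) S) :=
    inferInstanceAs (Module.Finite (MonoidAlgebra ℂ G) S)
  exact Module.Finite.trans (MonoidAlgebra ℂ G) _

set_option backward.isDefEq.respectTransparency false in
theorem zOf_mul_eq_zero_of_simple {f : G → ℂ} (hf : Cfsg.IsClassFunction G f)
    (h0 : ∀ χ : G → ℂ, Cfsg.IsIrrCharacter G χ → ∑ g : G, f g * χ g = 0)
    (S : Submodule (MonoidAlgebra ℂ G) (MonoidAlgebra ℂ G)) [hS : IsSimpleModule (MonoidAlgebra ℂ G) S]
    (s : MonoidAlgebra ℂ G) (hs : s ∈ S) : zOf f * s = 0 := by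
  have hfin := finite_restrictScalars_submodule S
  have hirr : (ofModule (k := ℂ) (G := G) S).IsIrreducible :=
    (isSimpleModule_iff_irreducible_ofModule S).mp hS
  have key := opSum_eq_zero_of_irr (ofModule (k := ℂ) (G := G) S) hf
    (h0 _ (isIrrCharacter_character _))
  rw [← asAlgebraHom_zOf] at key
  have key2 := congrArg (fun T => T ((RestrictScalars.addEquiv ℂ (MonoidAlgebra ℂ G) S).symm ⟨s, hs⟩)) key
  simp only [ofModule_asAlgebraHom_apply_apply, AddEquiv.apply_symm_apply, LinearMap.zero_apply] at key2
  have key3 := congrArg (RestrictScalars.addEquiv ℂ (MonoidAlgebra ℂ G) S) key2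
  simp only [AddEquiv.apply_symm_apply, map_zero] at key3
  have key4 := congrArg (Subtype.val) key3
  simpa using key4

/-- Key lemma: a class function annihilated by all irreducible characters vanishes. -/
theorem eq_zero_of_forall_irr {f : G → ℂ} (hf : Cfsg.IsClassFunction G f)
    (h0 : ∀ χ : G → ℂ, Cfsg.IsIrrCharacter G χ → ∑ g : G, f g * χ g = 0) : f = 0 := by
  have hne : NeZero (Nat.card G : ℂ) := ⟨card_ne_zero'⟩
  have htop := IsSemisimpleModule.sSup_simples_eq_top (MonoidAlgebra ℂ G) (MonoidAlgebra ℂ G)
  have h1 : (1 : MonoidAlgebra ℂ G) ∈ sSup {m : Submodule (MonoidAlgebra ℂ G) (MonoidAlgebra ℂ G) |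
      IsSimpleModule (MonoidAlgebra ℂ G) m} := by
    rw [htop]; trivial
  have hz : zOf f * 1 = 0 := by
    rw [sSup_eq_iSup'] at h1
    refine Submodule.iSup_induction (motive := fun x => zOf f * x = 0) _ h1 ?_ ?_ ?_
    · intro S x hx
      have : IsSimpleModule (MonoidAlgebra ℂ G) S.1 := S.2
      exact zOf_mul_eq_zero_of_simple hf h0 S.1 x hx
    · simp
    · intro x y hx hy
      rw [mul_add, hx, hy, add_zero]
  rw [mul_one] at hz
  funext g
  have := congrArg (fun z : MonoidAlgebra ℂ G => z.coeff g) hz
  simp only [zOf, MonoidAlgebra.coeff_sum, MonoidAlgebra.coeff_single, Finsupp.coe_finsetSum,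
    Finset.sum_apply, MonoidAlgebra.coeff_zero, Finsupp.coe_zero, Pi.zero_apply] at this
  rw [Finset.sum_eq_single g] at this
  · simpa using this
  · intro b _ hb
    simp [hb]
  · simp

end key




section expansion

variable [Fintype G]

/-- `pair · h` as a linear map. -/
noncomputable def pairL (h : G → ℂ) : (G → ℂ) →ₗ[ℂ] ℂ where
  toFun f := pair f h
  map_add' f₁ f₂ := by
    simp only [pair, Pi.add_apply, add_mul, Finset.sum_add_distrib, mul_add]
  map_smul' c f := by
    simp only [pair, Pi.smul_apply, smul_eq_mul, RingHom.id_apply, Finset.mul_sum]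
    refine Finset.sum_congr rfl (fun g _ => ?_)
    ring

theorem pairL_apply (f h : G → ℂ) : pairL h f = pair f h := rfl

theorem pair_eq_sum_inv (f h : G → ℂ) :
    pair f h = (Nat.card G : ℂ)⁻¹ * ∑ g : G, f g⁻¹ * h g := by
  unfold pair
  congr 1
  refine Fintype.sum_equiv (Equiv.inv G) _ _ ?_
  intro g
  simp

/-- The irreducible characters are linearly independent. -/
theorem irr_linearIndependent :
    LinearIndependent ℂ (fun χ : Cfsg.IrrCharacter G => (χ : G → ℂ)) := by
  classical
  rw [linearIndependent_iff']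
  intro s c hc ψ hψ
  have h1 := congrArg (pairL (ψ : G → ℂ)) hc
  rw [map_sum, map_zero] at h1
  rw [Finset.sum_eq_single ψ] at h1
  · rw [map_smul, pairL_apply, pair_irr_self ψ.2, smul_eq_mul, mul_one] at h1
    exact h1
  · intro χ _ hne
    rw [map_smul, pairL_apply, pair_irr_ne χ.2 ψ.2 (fun h => hne (Subtype.ext h)), smul_zero]
  · intro h; exact absurd hψ h

end expansion

/-- There are finitely many irreducible characters. -/
instance irr_finite [Finite G] : Finite (Cfsg.IrrCharacter G) := by
  have := Fintype.ofFinite G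
  exact LinearIndependent.finite (irr_linearIndependent (G := G))

section expansion2

variable [Fintype G] [Fintype (Cfsg.IrrCharacter G)]

/-- Expansion of a class function in terms of the irreducible characters. -/
theorem classFunction_expansion {f : G → ℂ} (hf : Cfsg.IsClassFunction G f) :
    f = ∑ χ : Cfsg.IrrCharacter G, pair f (χ : G → ℂ) • (χ : G → ℂ) := by
  classical
  set f' : G → ℂ := f - ∑ χ : Cfsg.IrrCharacter G, pair f (χ : G → ℂ) • (χ : G → ℂ) with hf'
  have hpair : ∀ ψ : Cfsg.IrrCharacter G, pair f' (ψ : G → ℂ) = 0 := by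
    intro ψ
    rw [← pairL_apply, hf', map_sub, map_sum]
    rw [Finset.sum_eq_single ψ]
    · rw [map_smul, pairL_apply, pairL_apply, pair_irr_self ψ.2, smul_eq_mul, mul_one, sub_self]
    · intro χ _ hne
      rw [map_smul, pairL_apply, pair_irr_ne χ.2 ψ.2 (fun h => hne (Subtype.ext h)), smul_zero]
    · intro h; exact absurd (Finset.mem_univ ψ) h
  have hcf' : Cfsg.IsClassFunction G f' := by
    intro g h
    simp only [hf', Pi.sub_apply, Finset.sum_apply, Pi.smul_apply]
    rw [hf g h]
    congr 1
    refine Finset.sum_congr rfl (fun χ _ => ?_)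
    rw [isClassFunction_of_isCharacter (isCharacter_of_irr χ.2) g h]
  have hcf'' : Cfsg.IsClassFunction G (fun g => f' g⁻¹) := by
    intro g h
    have := hcf' g⁻¹ h
    simpa [mul_assoc] using this
  have h0 : (fun g => f' g⁻¹) = 0 := by
    apply eq_zero_of_forall_irr hcf''
    intro χ hχ
    have := hpair ⟨χ, hχ⟩
    rw [pair_eq_sum_inv] at this
    rcases mul_eq_zero.mp this with h | h
    · exact absurd (inv_eq_zero.mp h) card_ne_zero'
    · exact h
  have h0' : f' = 0 := by
    funext g
    have := congrFun h0 g⁻¹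
    simpa using this
  rw [hf'] at h0'
  exact sub_eq_zero.mp h0'

end expansion2

end Cfsg.Agent.Lib.Helper3
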