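import Mathlib
import Cfsg.Prelude.Def_Characters
import Cfsg.Agent.S0016
import Cfsg.Agent.Lib.Helper3.QuatCenter
import Cfsg.Agent.Lib.Helper41.KleinCount
import Cfsg.Agent.Lib.Helper22.PComp

set_option autoImplicit false

namespace Cfsg.Agent.Lib.Helper3

open Subgroup

universe u

/-- A subgroup of order two is generated by an involution. -/
theorem exists_zpowers_of_card_two {G : Type*} [Group G] (H : Subgroup G) (hH : Nat.card H = 2) :
    ∃ h : G, orderOf h = 2 ∧ H = zpowers h := by
  have hfin : Finite H := Nat.finite_of_card_ne_zero (by rw [hH]; norm_num)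
  have hnt : Nontrivial H := by
    rw [← Finite.one_lt_card_iff_nontrivial, hH]
    norm_num
  obtain ⟨h, hh⟩ := exists_ne (1 : H)
  have h1 : orderOf h ∣ 2 := by
    rw [← hH]
    exact orderOf_dvd_natCard h
  have h2 : orderOf h = 2 := by
    rcases (Nat.dvd_prime Nat.prime_two).1 h1 with h3 | h3
    · exact absurd (orderOf_eq_one_iff.1 h3) hh
    · exact h3
  refine ⟨(h : G), by rw [Subgroup.orderOf_coe, h2], ?_⟩
  symm
  apply Subgroup.eq_of_le_of_card_ge
  · rw [zpowers_le]
    exact h.2
  · rw [Nat.card_zpowers, Subgroup.orderOf_coe, h2, hH]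

/-- A finite group of even order without Klein four-subgroups has a unique involution in each
Sylow `2`-subgroup. -/
theorem exists_unique_involution_of_no_klein {G : Type u} [Group G] [Finite G]
    (heven : Even (Nat.card G)) (hrank : ∀ E : Subgroup G, ¬ IsKleinFour E) (S : Sylow 2 G) :
    ∃ z : G, z ∈ (S : Subgroup G) ∧ orderOf z = 2 ∧
      ∀ s : G, s ∈ (S : Subgroup G) → orderOf s = 2 → s = z := by
  have : Fact (Nat.Prime 2) := ⟨Nat.prime_two⟩
  have hcard : Nat.card (S : Subgroup G) = 2 ^ (Nat.card G).factorization 2 :=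
    Sylow.card_eq_multiplicity S
  have hk : 1 ≤ (Nat.card G).factorization 2 := by
    have h2 : 2 ∣ Nat.card G := even_iff_two_dvd.1 heven
    exact (Nat.Prime.dvd_iff_one_le_factorization Nat.prime_two Nat.card_pos.ne').1 h2
  have hnt : Nontrivial (S : Subgroup G) := by
    rw [← Finite.one_lt_card_iff_nontrivial, hcard]
    exact Nat.one_lt_two_pow (by omega)
  have hcn : Nontrivial (Subgroup.center (S : Subgroup G)) := S.isPGroup'.center_nontrivial
  obtain ⟨c, hc⟩ := exists_ne (1 : Subgroup.center (S : Subgroup G))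
  -- an involution in the centre of `S`
  obtain ⟨j, hj⟩ := (IsPGroup.iff_orderOf.mp S.isPGroup') (c : (S : Subgroup G))
  have hj0 : j ≠ 0 := by
    rintro rfl
    rw [pow_zero, orderOf_eq_one_iff] at hj
    exact hc (Subtype.ext hj)
  obtain ⟨i, rfl⟩ : ∃ i, j = i + 1 := ⟨j - 1, by omega⟩
  set w : (S : Subgroup G) := (c : (S : Subgroup G)) ^ 2 ^ i with hw
  have hwo : orderOf w = 2 := by
    rw [hw, orderOf_pow, hj]
    have : Nat.gcd (2 ^ (i + 1)) (2 ^ i) = 2 ^ i := Nat.gcd_eq_right (pow_dvd_pow 2 (by omega))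
    rw [this, pow_succ]
    exact Nat.mul_div_cancel_left _ (by positivity)
  have hwc : ∀ s : (S : Subgroup G), s * w = w * s := by
    intro s
    have h1 : Commute s (c : (S : Subgroup G)) := (Subgroup.mem_center_iff.1 c.2 s)
    exact (h1.pow_right _).eq
  refine ⟨(w : G), w.2, by rw [Subgroup.orderOf_coe, hwo], ?_⟩
  intro s hs hso
  by_contra hne
  have hs2 : s * s = 1 := by
    have := pow_orderOf_eq_one s
    rwa [hso, pow_two] at this
  have hw2 : (w : G) * (w : G) = 1 := by
    have := pow_orderOf_eq_one w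
    rw [hwo, pow_two] at this
    exact congrArg Subtype.val this
  have hcomm : (w : G) * s = s * (w : G) := by
    have := hwc ⟨s, hs⟩
    exact (congrArg Subtype.val this).symm
  have hs1 : s ≠ 1 := by
    rintro rfl
    rw [orderOf_one] at hso
    omega
  have hw1 : (w : G) ≠ 1 := by
    intro h
    have : orderOf (w : G) = 2 := by rw [Subgroup.orderOf_coe, hwo]
    rw [h, orderOf_one] at this
    omega
  exact hrank _ (Cfsg.Agent.Lib.Helper41.isKleinFour_kleinOf s (w : G) hs2 hw2 hcomm hs1 hw1 hne)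

/-- Cyclic Sylow `2`-subgroup: every involution is central modulo the normal `2`-complement. -/
theorem rank_one_cyclic {G : Type u} [Group G] [Finite G] (heven : Even (Nat.card G))
    (S : Sylow 2 G) (hS : IsCyclic (S : Subgroup G)) (z : G) :
    ∃ N : Subgroup G, N.Normal ∧ Odd (Nat.card N) ∧ ∀ g : G, z * g * z⁻¹ * g⁻¹ ∈ N := by
  have : Fact (Nat.Prime 2) := ⟨Nat.prime_two⟩
  have hmin : (Nat.card G).minFac = 2 :=
    (Nat.minFac_eq_two_iff _).2 (even_iff_two_dvd.1 heven)
  have hP := hS.normalizer_le_centralizer hmin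
  refine ⟨(MonoidHom.transferSylow S hP).ker, inferInstance, ?_, ?_⟩
  · have h := MonoidHom.not_dvd_card_ker_transferSylow S hP
    exact Nat.odd_iff.2 (Nat.two_dvd_ne_zero.1 h)
  · intro g
    have hcomm : ∀ a b : (S : Subgroup G), a * b = b * a := by
      intro a b
      apply Subtype.ext
      have h1 := hP (Subgroup.le_normalizer b.2)
      exact (Subgroup.mem_centralizer_iff.1 h1 a a.2)
    rw [MonoidHom.mem_ker, map_mul, map_mul, map_mul, map_inv, map_inv,
      hcomm (MonoidHom.transferSylow S hP z) (MonoidHom.transferSylow S hP g),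
      mul_inv_cancel_right, mul_inv_cancel]

/-- Groups of `2`-rank one, given the Brauer–Suzuki theorem: some involution is central modulo
a normal subgroup of odd order. -/
theorem rank_one_of_bs
    (hBS : ∀ {H : Type u} [Group H] [Finite H] (S : Sylow 2 H) (n : ℕ)
      (_ : (S : Subgroup H) ≃* QuaternionGroup (2 ^ (n + 1)))
      (_ : ∀ N : Subgroup H, N.Normal → Odd (Nat.card N) → N = ⊥),
      Nat.card (Subgroup.center H) = 2)
    {G : Type u} [Group G] [Finite G] (heven : Even (Nat.card G))
    (hrank : ∀ E : Subgroup G, ¬ IsKleinFour E) :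
    ∃ z : G, orderOf z = 2 ∧ ∃ N : Subgroup G, N.Normal ∧ Odd (Nat.card N) ∧
      ∀ g : G, z * g * z⁻¹ * g⁻¹ ∈ N := by
  have : Fact (Nat.Prime 2) := ⟨Nat.prime_two⟩
  obtain ⟨S⟩ : Nonempty (Sylow 2 G) := inferInstance
  obtain ⟨z, hzS, hz, huniq⟩ := exists_unique_involution_of_no_klein heven hrank S
  refine ⟨z, hz, ?_⟩
  have hstruct := Cfsg.Agent.S0016.result (G := (S : Subgroup G)) 2 S.isPGroup' (by
    intro H K hH hK
    obtain ⟨h, hho, rfl⟩ := exists_zpowers_of_card_two H hH
    obtain ⟨k, hko, rfl⟩ := exists_zpowers_of_card_two K hK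
    have h1 := huniq (h : G) h.2 (by rw [Subgroup.orderOf_coe, hho])
    have h2 := huniq (k : G) k.2 (by rw [Subgroup.orderOf_coe, hko])
    have : h = k := Subtype.ext (h1.trans h2.symm)
    rw [this])
  rcases hstruct with hcyc | ⟨-, n, ⟨e⟩⟩
  · exact rank_one_cyclic heven S hcyc z
  · rcases n with _ | n
    · have h1 : IsCyclic (QuaternionGroup (2 ^ 0)) := by
        rw [pow_zero]
        exact QuaternionGroup.quaternionGroup_one_isCyclic
      exact rank_one_cyclic heven S (isCyclic_of_injective e.toMonoidHom e.injective) z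
    · have hNodd : Odd (Nat.card (Cfsg.pPrimeCore 2 G)) :=
        Nat.coprime_two_right.1 (Cfsg.Agent.Lib.Helper22.card_pPrimeCore_coprime 2 G)
      refine ⟨Cfsg.pPrimeCore 2 G, inferInstance, hNodd, ?_⟩
      have hf : Function.Surjective (QuotientGroup.mk' (Cfsg.pPrimeCore 2 G)) :=
        QuotientGroup.mk'_surjective _
      have hinj : ∀ s ∈ (S : Subgroup G), QuotientGroup.mk' (Cfsg.pPrimeCore 2 G) s = 1 →
          s = 1 := by
        intro s hs h1
        have hsN : s ∈ Cfsg.pPrimeCore 2 G := (QuotientGroup.eq_one_iff s).1 h1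
        obtain ⟨k, hk⟩ := (IsPGroup.iff_orderOf.mp S.isPGroup') ⟨s, hs⟩
        rw [Subgroup.orderOf_mk] at hk
        have h2 : orderOf (⟨s, hsN⟩ : Cfsg.pPrimeCore 2 G) ∣ Nat.card (Cfsg.pPrimeCore 2 G) :=
          orderOf_dvd_natCard _
        rw [Subgroup.orderOf_mk, hk] at h2
        have hk0 : k = 0 := by
          by_contra hk0
          have : 2 ∣ Nat.card (Cfsg.pPrimeCore 2 G) := (dvd_pow_self 2 hk0).trans h2
          exact (Nat.not_even_iff_odd.2 hNodd) (even_iff_two_dvd.2 this)
        rw [hk0, pow_zero, orderOf_eq_one_iff] at hk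
        exact hk
      have hφbij : Function.Bijective
          ((QuotientGroup.mk' (Cfsg.pPrimeCore 2 G)).subgroupMap (S : Subgroup G)) := by
        constructor
        · rw [injective_iff_map_eq_one]
          intro s hs
          have : QuotientGroup.mk' (Cfsg.pPrimeCore 2 G) (s : G) = 1 := congrArg Subtype.val hs
          exact Subtype.ext (hinj s s.2 this)
        · exact (QuotientGroup.mk' (Cfsg.pPrimeCore 2 G)).subgroupMap_surjective (S : Subgroup G)
      have hO : ∀ N' : Subgroup (G ⧸ Cfsg.pPrimeCore 2 G), N'.Normal → Odd (Nat.card N') →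
          N' = ⊥ := by
        intro N' hN' hodd
        have h1 := Cfsg.Agent.Lib.Helper22.le_pPrimeCore_of_normal 2 hN'
          (Nat.coprime_two_right.2 hodd)
        rw [Cfsg.Agent.Lib.Helper22.pPrimeCore_quotient_eq_bot] at h1
        exact le_bot_iff.1 h1
      have hcen := hBS (S.mapSurjective hf) n
        ((MulEquiv.ofBijective _ hφbij).symm.trans e) hO
      obtain ⟨w, hwo, hw⟩ := exists_zpowers_of_card_two _ hcen
      have hwc : ∀ g : G ⧸ Cfsg.pPrimeCore 2 G, g * w = w * g := by
        intro g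
        have : w ∈ Subgroup.center (G ⧸ Cfsg.pPrimeCore 2 G) := by
          rw [hw]
          exact mem_zpowers w
        exact (Subgroup.mem_center_iff.1 this g)
      have hwS : w ∈ ((S.mapSurjective hf : Sylow 2 (G ⧸ Cfsg.pPrimeCore 2 G)) :
          Subgroup (G ⧸ Cfsg.pPrimeCore 2 G)) := by
        obtain ⟨g, hg⟩ := Cfsg.Agent.Lib.Helper52.exists_conj_mem_sylow_of_orderOf_pow
          (S.mapSurjective hf) w 1 (by rw [hwo, pow_one])
        have : g * w * g⁻¹ = w := by rw [hwc g, mul_inv_cancel_right]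
        rwa [this] at hg
      have hfz : orderOf (QuotientGroup.mk' (Cfsg.pPrimeCore 2 G) z) = 2 := by
        apply orderOf_eq_prime
        · rw [← map_pow, ← hz, pow_orderOf_eq_one, map_one]
        · intro h
          have := hinj z hzS h
          rw [this, orderOf_one] at hz
          omega
      have hfzS : QuotientGroup.mk' (Cfsg.pPrimeCore 2 G) z ∈
          ((S.mapSurjective hf : Sylow 2 (G ⧸ Cfsg.pPrimeCore 2 G)) :
            Subgroup (G ⧸ Cfsg.pPrimeCore 2 G)) :=
        Subgroup.mem_map_of_mem _ hzS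
      have hNe : NeZero (2 ^ (n + 1)) := ⟨by positivity⟩
      have heq : QuotientGroup.mk' (Cfsg.pPrimeCore 2 G) z = w :=
        quatM_inv_unique (S.mapSurjective hf) (2 ^ (n + 1))
          ((MulEquiv.ofBijective _ hφbij).symm.trans e) hfzS hwS hfz hwo
      intro g
      rw [← QuotientGroup.eq_one_iff]
      show QuotientGroup.mk' (Cfsg.pPrimeCore 2 G) (z * g * z⁻¹ * g⁻¹) = 1
      rw [map_mul, map_mul, map_mul, map_inv, map_inv, heq,
        ← hwc (QuotientGroup.mk' (Cfsg.pPrimeCore 2 G) g), mul_inv_cancel_right, mul_inv_cancel]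

end Cfsg.Agent.Lib.Helper3
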