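import Mathlib
import Cfsg.Prelude.Def_Characters
import Cfsg.Agent.Lib.Helper3.IndFun

set_option autoImplicit false

namespace Cfsg.Agent.Lib.Helper3

open scoped ComplexConjugate

universe u

variable {G : Type u} [Group G] [Fintype G]

/-- Induction from the normalizer of a trivial-intersection set: the induced function agrees
with the original one on the non-identity elements of the set. -/
theorem indFun_TI_apply (T : Set G)
    (hTI : ∀ g : G, g ∉ Subgroup.normalizer T → ∀ t ∈ T, g * t * g⁻¹ ∈ T → t = 1)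
    (ψ : Subgroup.normalizer T → ℂ) (hψ : Cfsg.IsClassFunction (Subgroup.normalizer T) ψ)
    (hψT : ∀ x : Subgroup.normalizer T, (x : G) ∉ T → ψ x = 0)
    (t : Subgroup.normalizer T) (htT : (t : G) ∈ T) (ht1 : t ≠ 1) :
    Cfsg.indFun (Subgroup.normalizer T) ψ t = ψ t := by
  classical
  unfold Cfsg.indFun
  have hterm : ∀ x : G, Cfsg.extendByZero (Subgroup.normalizer T) ψ (x⁻¹ * (t : G) * x) =
      if x ∈ Subgroup.normalizer T then ψ t else 0 := by
    intro x
    split_ifs with hx
    · have hmem : x⁻¹ * (t : G) * x ∈ Subgroup.normalizer T :=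
        Subgroup.mul_mem _ (Subgroup.mul_mem _ (Subgroup.inv_mem _ hx) t.2) hx
      rw [extendByZero_of_mem _ ψ hmem]
      have h1 := hψ t (⟨x, hx⟩⁻¹ : Subgroup.normalizer T)
      rw [inv_inv] at h1
      rw [← h1]
      rfl
    · by_cases hmem : x⁻¹ * (t : G) * x ∈ Subgroup.normalizer T
      · rw [extendByZero_of_mem _ ψ hmem]
        apply hψT
        intro hT
        have hx' : x⁻¹ ∉ Subgroup.normalizer T := fun h => hx (by simpa using Subgroup.inv_mem _ h)
        have h2 := hTI x⁻¹ hx' (t : G) htT (by simpa using hT)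
        exact ht1 (Subtype.ext h2)
      · exact extendByZero_of_not_mem _ ψ hmem
  simp_rw [hterm]
  rw [← Finset.sum_filter, Finset.sum_const, nsmul_eq_mul]
  have hcard : ((Finset.univ.filter (fun x : G => x ∈ Subgroup.normalizer T)).card : ℂ) =
      (Nat.card (Subgroup.normalizer T) : ℂ) := by
    congr 1
    rw [Nat.card_eq_fintype_card, Fintype.card_subtype]
  rw [hcard, ← mul_assoc, inv_mul_cancel₀, one_mul]
  exact_mod_cast Nat.card_pos.ne'

/-- Induction from the normalizer of a trivial-intersection set is an isometry on class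
functions vanishing off the set and at the identity. -/
theorem classInner_indFun_TI (T : Set G)
    (hTI : ∀ g : G, g ∉ Subgroup.normalizer T → ∀ t ∈ T, g * t * g⁻¹ ∈ T → t = 1)
    [Fintype (Subgroup.normalizer T)]
    (ψ θ : Subgroup.normalizer T → ℂ) (hψ : Cfsg.IsClassFunction (Subgroup.normalizer T) ψ)
    (hθ : Cfsg.IsClassFunction (Subgroup.normalizer T) θ)
    (hψT : ∀ x : Subgroup.normalizer T, (x : G) ∉ T → ψ x = 0)
    (hθT : ∀ x : Subgroup.normalizer T, (x : G) ∉ T → θ x = 0) (hψ1 : ψ 1 = 0) :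
    Cfsg.classInner (Cfsg.indFun (Subgroup.normalizer T) ψ)
      (Cfsg.indFun (Subgroup.normalizer T) θ) = Cfsg.classInner ψ θ := by
  rw [frobenius_reciprocity _ ψ _ (isClassFunction_indFun _ θ)]
  unfold Cfsg.classInner
  congr 1
  refine Finset.sum_congr rfl (fun n _ => ?_)
  by_cases hn1 : n = 1
  · rw [hn1, hψ1, zero_mul, zero_mul]
  · by_cases hnT : (n : G) ∈ T
    · show ψ n * conj (Cfsg.indFun (Subgroup.normalizer T) θ (n : G)) = ψ n * conj (θ n)
      rw [indFun_TI_apply T hTI θ hθ hθT n hnT hn1]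
    · rw [hψT n hnT, zero_mul, zero_mul]

end Cfsg.Agent.Lib.Helper3
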