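import Mathlib
import Cfsg.Prelude.Def_Characters
import Cfsg.Agent.S0173
import Cfsg.Agent.Lib.Helper3.CharDecomp
import Cfsg.Agent.Lib.Helper3.Burnside
import Cfsg.Agent.Lib.Helper3.IndFun
import Cfsg.Agent.Lib.Helper75.Clifford

set_option autoImplicit false

namespace Cfsg.Agent.Lib.Helper3

open scoped ComplexConjugate

universe u

variable {G : Type u} [Group G]

/-- In a Frobenius group `K ⋊ H`, every element `u * h` of the coset `K h` (`h ≠ 1`) is
`K`-conjugate to `h`. -/
theorem frob_coset_conj [Finite G] (K H : Subgroup G) [hK : K.Normal]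
    (hfpf : ∀ h ∈ H, h ≠ 1 → ∀ k ∈ K, h * k = k * h → k = 1)
    {h : G} (hh : h ∈ H) (h1 : h ≠ 1) {u : G} (hu : u ∈ K) :
    ∃ v ∈ K, u * h = v * h * v⁻¹ := by
  let f : K → K := fun v => ⟨v * h * (v : G)⁻¹ * h⁻¹, by
    have h2 : h * (v : G)⁻¹ * h⁻¹ ∈ K := hK.conj_mem _ (K.inv_mem v.2) h
    have h3 := K.mul_mem v.2 h2
    have h4 : (v : G) * (h * (v : G)⁻¹ * h⁻¹) = v * h * (v : G)⁻¹ * h⁻¹ := by group
    rwa [h4] at h3⟩
  have hinj : Function.Injective f := by
    intro v w hvw
    have h3 : (v : G) * h * (v : G)⁻¹ * h⁻¹ = w * h * (w : G)⁻¹ * h⁻¹ := congrArg Subtype.val hvw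
    have h3' : (v : G) * h * (v : G)⁻¹ = w * h * (w : G)⁻¹ := mul_right_cancel h3
    have h4 : h * ((w : G)⁻¹ * v) = ((w : G)⁻¹ * v) * h := by
      calc h * ((w : G)⁻¹ * v) = (w : G)⁻¹ * (w * h * (w : G)⁻¹) * v := by group
        _ = (w : G)⁻¹ * (v * h * (v : G)⁻¹) * v := by rw [h3']
        _ = ((w : G)⁻¹ * v) * h := by group
    have h5 := hfpf h hh h1 _ (K.mul_mem (K.inv_mem w.2) v.2) h4
    apply Subtype.ext
    exact (inv_mul_eq_one.mp h5).symm
  obtain ⟨v, hv⟩ := (Finite.injective_iff_surjective.mp hinj) ⟨u, hu⟩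
  refine ⟨v, v.2, ?_⟩
  have h6 : (v : G) * h * (v : G)⁻¹ * h⁻¹ = u := congrArg Subtype.val hv
  rw [← h6]
  group

/-- In a Frobenius group `K ⋊ H`, a non-identity element of `H` fixes no non-principal
irreducible character of `K`. -/
theorem frob_conjChar_ne [Finite G] (K H : Subgroup G) [hK : K.Normal]
    (hfpf : ∀ h ∈ H, h ≠ 1 → ∀ k ∈ K, h * k = k * h → k = 1)
    {h : G} (hh : h ∈ H) (h1 : h ≠ 1) {τ : K → ℂ} (hτ : Cfsg.IsIrrCharacter K τ)
    (hτ1 : τ ≠ fun _ => 1) :
    Cfsg.Agent.Lib.Helper75.conjChar K τ h ≠ τ := by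
  intro hfix
  let α : K ≃* K := MulAut.conjNormal h
  have hB := Cfsg.Agent.S0173.result α
  have hsub : Subsingleton {C : ConjClasses K // ConjClasses.map α.toMonoidHom C = C} := by
    have key : ∀ C : ConjClasses K, ConjClasses.map α.toMonoidHom C = C →
        C = ConjClasses.mk 1 := by
      intro C hC
      induction C using ConjClasses.mk_surjective.forall.mpr with
      | _ k =>
      have hC' : ConjClasses.mk (α k) = ConjClasses.mk k := hC
      rw [ConjClasses.mk_eq_mk_iff_isConj, isConj_iff] at hC'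
      obtain ⟨u, hu⟩ := hC'
      have hu' : (u : G) * (h * k * h⁻¹) * (u : G)⁻¹ = k := by
        have := congrArg Subtype.val hu
        simpa [α] using this
      obtain ⟨v, hv, hvu⟩ := frob_coset_conj K H hfpf hh h1 u.2
      have hcomm : h * ((v⁻¹ : G) * k * v) = ((v⁻¹ : G) * k * v) * h := by
        have e1 : (u : G) * h * k = k * ((u : G) * h) := by
          calc (u : G) * h * k = (u : G) * (h * k * h⁻¹) * (u : G)⁻¹ * ((u : G) * h) := by group
            _ = k * ((u : G) * h) := by rw [hu']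
        rw [hvu] at e1
        calc h * ((v⁻¹ : G) * k * v) = v⁻¹ * (v * h * v⁻¹ * k) * v := by group
          _ = v⁻¹ * (k * (v * h * v⁻¹)) * v := by rw [e1]
          _ = ((v⁻¹ : G) * k * v) * h := by group
      have hmem : (v⁻¹ : G) * k * v ∈ K := by
        have := hK.conj_mem _ k.2 v⁻¹
        rwa [inv_inv] at this
      have hk1 := hfpf h hh h1 _ hmem hcomm
      have hk : (k : G) = 1 := by
        have : (k : G) = v * ((v⁻¹ : G) * k * v) * v⁻¹ := by group
        rw [this, hk1]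
        group
      have : k = 1 := Subtype.ext hk
      rw [this]
    constructor
    rintro ⟨C, hC⟩ ⟨D, hD⟩
    apply Subtype.ext
    show C = D
    rw [key C hC, key D hD]
  have hfin : Finite {χ : Cfsg.IrrCharacter K // (χ : K → ℂ) ∘ α = (χ : K → ℂ)} :=
    inferInstance
  have hle : Nat.card {χ : Cfsg.IrrCharacter K // (χ : K → ℂ) ∘ α = (χ : K → ℂ)} ≤ 1 := by
    rw [← hB]
    exact Finite.card_le_one_iff_subsingleton.mpr hsub
  have hsub2 := Finite.card_le_one_iff_subsingleton.mp hle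
  have hτα : τ ∘ α = τ := by
    funext n
    have := congrFun hfix (α n)
    unfold Cfsg.Agent.Lib.Helper75.conjChar at this
    show τ (α n) = τ n
    rw [← this]
    congr 1
    exact MulAut.inv_apply_self K (MulAut.conjNormal h) n
  have h1α : (fun _ : K => (1 : ℂ)) ∘ α = fun _ => 1 := rfl
  have heq := hsub2.elim ⟨⟨τ, hτ⟩, hτα⟩ ⟨⟨fun _ => 1, isIrrCharacter_one⟩, h1α⟩
  exact hτ1 (congrArg (fun x => (x.1 : K → ℂ)) heq)

/-- If the inertia group of an irreducible character `θ` of a normal subgroup `N` is `N`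
itself then `θ` induces irreducibly. -/
theorem isIrrCharacter_indFun_of_inertia [Fintype G] (N : Subgroup G) [hN : N.Normal]
    {θ : N → ℂ} (hθ : Cfsg.IsIrrCharacter N θ)
    (hI : ∀ x : G, Cfsg.Agent.Lib.Helper75.conjChar N θ x = θ → x ∈ N) :
    Cfsg.IsIrrCharacter G (Cfsg.indFun N θ) := by
  classical
  have : Fintype N := Fintype.ofFinite N
  apply isIrrCharacter_of_classInner_eq_one
    (Cfsg.Agent.Lib.Helper75.isCharacter_indFun N (isCharacter_of_irr hθ))
  rw [frobenius_reciprocity N θ _ (isClassFunction_indFun N θ),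
    Cfsg.Agent.Lib.Helper75.indFun_res N θ]
  have hNne : (Nat.card N : ℂ) ≠ 0 := by
    exact_mod_cast Nat.card_pos.ne'
  have hcf := isClassFunction_of_isCharacter (isCharacter_of_irr hθ)
  have hx : ∀ x : G, Cfsg.classInner θ (Cfsg.Agent.Lib.Helper75.conjChar N θ x) =
      if x ∈ N then 1 else 0 := by
    intro x
    by_cases hxN : x ∈ N
    · rw [if_pos hxN, Cfsg.Agent.Lib.Helper75.conjChar_of_mem N hcf hxN, classInner_irr_self hθ]
    · rw [if_neg hxN]
      apply classInner_irr_ne hθ (Cfsg.Agent.Lib.Helper75.isIrrCharacter_conjChar N hθ x)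
      intro h
      exact hxN (hI x h.symm)
  have hexp : Cfsg.classInner θ ((Nat.card N : ℂ)⁻¹ • ∑ x : G,
      Cfsg.Agent.Lib.Helper75.conjChar N θ x) =
      (Nat.card N : ℂ)⁻¹ * ∑ x : G,
        Cfsg.classInner θ (Cfsg.Agent.Lib.Helper75.conjChar N θ x) := by
    unfold Cfsg.classInner
    simp only [Pi.smul_apply, Finset.sum_apply, smul_eq_mul, map_mul, map_sum, map_inv₀,
      Complex.conj_natCast]
    simp only [Finset.mul_sum]
    rw [Finset.sum_comm]
    refine Finset.sum_congr rfl (fun n _ => ?_)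
    refine Finset.sum_congr rfl (fun x _ => ?_)
    ring
  rw [hexp]
  simp only [hx]
  rw [Finset.sum_boole]
  have hcard : (Finset.univ.filter (fun x : G => x ∈ N)).card = Nat.card N := by
    rw [Nat.card_eq_fintype_card, Fintype.card_subtype]
  rw [hcard]
  exact inv_mul_cancel₀ hNne

end Cfsg.Agent.Lib.Helper3
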