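import Mathlib
import Cfsg.Prelude.Def_Blocks
import Cfsg.Agent.Lib.Helper16.Cover
import Cfsg.Agent.Lib.Helper77.SubBlock
import Cfsg.Agent.Lib.Helper77.Defect
import Cfsg.Agent.Lib.Helper77.Degree
import Cfsg.Agent.Lib.Helper80.CharKer
import Cfsg.Agent.Lib.Helper75.CharDecomp
import Cfsg.Agent.Lib.Helper75.CharInd
import Cfsg.Agent.S4434
import Cfsg.Agent.S0941
import Cfsg.Agent.S0914
import Cfsg.Agent.S0908
import Cfsg.Agent.S0887

/-!
# Blocks covered by a block with a normal defect group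

`defect_of_defect_zero_mod`: if `P` is a normal `p`-subgroup of `X` whose centralizer has
`p`-power index, and `ζ` is an irreducible character with `P` in its kernel and of defect zero
modulo `P`, then `P` is a defect group of the block of `ζ`.

`claimZ`: if `B` is a block of `Γ` with a normal defect group `P`, and `Ξ` is a normal subgroup
containing `P` in which the centralizer of `P` has `p`-power index, then every block of `Ξ`
covered by `B` has defect group `P`.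
-/

set_option autoImplicit false
set_option linter.unusedSectionVars false

namespace Cfsg.Agent.Lib.Helper3.KnorrZ

open Cfsg Cfsg.Agent.Lib.Helper16
open scoped ComplexConjugate

section Arith

/-- if `d ∣ a`, `a ≠ 0` and the `p`-parts agree then `p ∤ a / d` -/
theorem not_dvd_div_of_factorization_eq {p a d : ℕ} (hp : p.Prime) (ha : a ≠ 0) (hd : d ∣ a)
    (h : d.factorization p = a.factorization p) : ¬ p ∣ a / d := by
  intro hdvd
  have h1 : (a / d).factorization p = a.factorization p - d.factorization p := by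
    rw [Nat.factorization_div hd]; rfl
  have h2 : a / d ≠ 0 := by
    obtain ⟨k, rfl⟩ := hd
    have hd0 : d ≠ 0 := fun h0 => ha (by rw [h0, zero_mul])
    have hk0 : k ≠ 0 := fun h0 => ha (by rw [h0, mul_zero])
    rw [Nat.mul_div_cancel_left k (Nat.pos_of_ne_zero hd0)]
    exact hk0
  have h3 : 1 ≤ (a / d).factorization p :=
    (hp.dvd_iff_one_le_factorization h2).mp hdvd
  omega

end Arith

section Quot

variable {X : Type*} [Group X] [Finite X] {p : ℕ} [Fact p.Prime] {M : Ideal Cfsg.AlgInt}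

/-- **Defect zero modulo a normal `p`-subgroup.** -/
theorem defect_of_defect_zero_mod (hM : Cfsg.IsPModular p M) (P : Subgroup X) [hPn : P.Normal]
    (hP : IsPGroup p P)
    (hC : ∃ k : ℕ, (Subgroup.centralizer (P : Set X)).index = p ^ k)
    (ζ : Cfsg.IrrCharacter X) (hker : ∀ x ∈ P, (ζ : X → ℂ) x = (ζ : X → ℂ) 1)
    (hdeg : (Cfsg.charDegree (ζ : X → ℂ)).factorization p = P.index.factorization p) :
    Cfsg.IsDefectGroup p M (Cfsg.blockOf M (ζ : X → ℂ)) P := by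
  classical
  have hp : p.Prime := Fact.out
  have hMp := isPrime_of_isPModular hM
  haveI : Fintype X := Fintype.ofFinite X
  -- the deflated character
  let ζb : Cfsg.IrrCharacter (X ⧸ P) := Cfsg.Agent.Lib.Helper80.deflateIrr P ⟨ζ, hker⟩
  have hζb : ∀ g : X, (ζb : X ⧸ P → ℂ) (g : X ⧸ P) = (ζ : X → ℂ) g :=
    fun g => Cfsg.Agent.Lib.Helper80.deflateIrr_apply P ⟨ζ, hker⟩ g
  have hζb1 : (ζb : X ⧸ P → ℂ) 1 = (ζ : X → ℂ) 1 := hζb 1
  have hdegb : Cfsg.charDegree (ζb : X ⧸ P → ℂ) = Cfsg.charDegree (ζ : X → ℂ) := by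
    unfold Cfsg.charDegree
    rw [hζb1]
  have hcard : Nat.card (X ⧸ P) = P.index := (Subgroup.index_eq_card P).symm
  have hidx0 : P.index ≠ 0 := Subgroup.index_ne_zero_of_finite
  have hdvd : Cfsg.charDegree (ζb : X ⧸ P → ℂ) ∣ Nat.card (X ⧸ P) :=
    Cfsg.Agent.Lib.Helper80.charDegree_dvd_card ζb.2
  -- the block of `ζb` is a singleton
  have hsing : Cfsg.blockOf M (ζb : X ⧸ P → ℂ) = {ζb} := by
    apply (Cfsg.Agent.S0914.result p M hM ζb).mp
    rw [hcard] at hdvd ⊢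
    apply not_dvd_div_of_factorization_eq hp hidx0 hdvd
    rw [hdegb, hdeg]
  -- the dominated block
  obtain ⟨Bbar, hBbar, hinfl, hdef⟩ := Cfsg.Agent.S4434.result p M hM P hP
    (Cfsg.blockOf M (ζ : X → ℂ)) (isPBlock_blockOf ζ)
  have hBbar_eq : Bbar = {ζb} := by
    obtain ⟨χb, hχb⟩ := IsPBlock.nonempty hMp hBbar
    have hmem : (Cfsg.Agent.Lib.Helper80.inflateIrr P χb : Cfsg.IrrCharacter X) ∈
        Cfsg.blockOf M (ζ : X → ℂ) := hinfl χb hχb _ rfl
    have hsame : Cfsg.SameBlock M ((ζb : X ⧸ P → ℂ) ∘ QuotientGroup.mk)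
        ((χb : X ⧸ P → ℂ) ∘ QuotientGroup.mk) := by
      have h1 : (ζb : X ⧸ P → ℂ) ∘ QuotientGroup.mk = (ζ : X → ℂ) := by
        funext g; exact hζb g
      rw [h1]
      exact hmem
    have hsame' := ((Cfsg.Agent.S0941.result p M hM P hP hC).1 ζb χb).mpr hsame
    have hχb' : χb ∈ Cfsg.blockOf M (ζb : X ⧸ P → ℂ) := hsame'
    rw [hsing] at hχb'
    have hχeq : χb = ζb := hχb'
    rw [hχeq] at hχb
    rw [IsPBlock.eq_blockOf hMp hBbar hχb, hsing]
  -- a defect group of the block of `ζ`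
  obtain ⟨D, hD⟩ := Cfsg.Agent.Lib.Helper77.exists_isDefectGroup p hMp
    (Cfsg.blockOf M (ζ : X → ℂ)) (isPBlock_blockOf ζ)
  have hDbar : Cfsg.IsDefectGroup p M Bbar (D.map (QuotientGroup.mk' P)) :=
    (hdef _).mpr ⟨D, hD, rfl⟩
  have hcardD := Cfsg.Agent.S0908.result p M hM Bbar hBbar _ hDbar
  have hdefect : Cfsg.blockDefect p Bbar = 0 := by
    rw [hBbar_eq]
    unfold Cfsg.blockDefect
    rw [Set.image_singleton, csInf_singleton, hdegb, hdeg, hcard]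
    exact Nat.sub_self _
  rw [hdefect, pow_zero] at hcardD
  have hDle : D ≤ P := by
    intro x hx
    have hbot : D.map (QuotientGroup.mk' P) = ⊥ := Subgroup.card_eq_one.mp hcardD
    have hx' : (QuotientGroup.mk' P) x ∈ D.map (QuotientGroup.mk' P) :=
      Subgroup.mem_map_of_mem _ hx
    rw [hbot, Subgroup.mem_bot] at hx'
    exact (QuotientGroup.eq_one_iff x).mp hx'
  have hPle : P ≤ D :=
    Cfsg.Agent.Lib.Helper77.normal_pgroup_le_of_isDefectGroup hM P hP (isPBlock_blockOf ζ) hD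
  rw [le_antisymm hPle hDle]
  exact hD

/-- a block with a normal defect group `P` contains a character with `P` in its kernel which is
of defect zero modulo `P` -/
theorem exists_special (hM : Cfsg.IsPModular p M) (P : Subgroup X) [hPn : P.Normal]
    (hP : IsPGroup p P) (B : Set (Cfsg.IrrCharacter X)) (hB : Cfsg.IsPBlock M B)
    (hD : Cfsg.IsDefectGroup p M B P) :
    ∃ Φ ∈ B, (∀ x ∈ P, (Φ : X → ℂ) x = (Φ : X → ℂ) 1) ∧
      (Cfsg.charDegree (Φ : X → ℂ)).factorization p = P.index.factorization p := by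
  classical
  have hp : p.Prime := Fact.out
  have hMp := isPrime_of_isPModular hM
  obtain ⟨Bbar, hBbar, hinfl, hdef⟩ := Cfsg.Agent.S4434.result p M hM P hP B hB
  have hDbar : Cfsg.IsDefectGroup p M Bbar (P.map (QuotientGroup.mk' P)) :=
    (hdef _).mpr ⟨P, hD, rfl⟩
  have hcardD := Cfsg.Agent.S0908.result p M hM Bbar hBbar _ hDbar
  have hbot : P.map (QuotientGroup.mk' P) = ⊥ := by
    rw [eq_bot_iff]
    rintro _ ⟨x, hx, rfl⟩
    rw [Subgroup.mem_bot]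
    exact (QuotientGroup.eq_one_iff x).mpr hx
  rw [hbot, Subgroup.card_bot] at hcardD
  have hdefect : Cfsg.blockDefect p Bbar = 0 := by
    by_contra h0
    have : 1 < p ^ Cfsg.blockDefect p Bbar := Nat.one_lt_pow h0 hp.one_lt
    omega
  obtain ⟨χb, hχb⟩ := IsPBlock.nonempty hMp hBbar
  refine ⟨(Cfsg.Agent.Lib.Helper80.inflateIrr P χb : Cfsg.IrrCharacter X), hinfl χb hχb _ rfl,
    (Cfsg.Agent.Lib.Helper80.inflateIrr P χb).2, ?_⟩
  have hdegb : Cfsg.charDegree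
      ((Cfsg.Agent.Lib.Helper80.inflateIrr P χb : Cfsg.IrrCharacter X) : X → ℂ) =
      Cfsg.charDegree (χb : X ⧸ P → ℂ) := by
    unfold Cfsg.charDegree
    rfl
  rw [hdegb]
  have hcard : Nat.card (X ⧸ P) = P.index := (Subgroup.index_eq_card P).symm
  have hidx0 : P.index ≠ 0 := Subgroup.index_ne_zero_of_finite
  have hdvd : Cfsg.charDegree (χb : X ⧸ P → ℂ) ∣ Nat.card (X ⧸ P) :=
    Cfsg.Agent.Lib.Helper80.charDegree_dvd_card χb.2
  rw [hcard] at hdvd
  have hle : (Cfsg.charDegree (χb : X ⧸ P → ℂ)).factorization p ≤ P.index.factorization p :=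
    (Nat.factorization_le_iff_dvd (Nat.pos_of_dvd_of_pos hdvd (Nat.pos_of_ne_zero hidx0)).ne'
      hidx0).mpr hdvd p
  have hge : P.index.factorization p ≤ (Cfsg.charDegree (χb : X ⧸ P → ℂ)).factorization p := by
    unfold Cfsg.blockDefect at hdefect
    rw [hcard] at hdefect
    have h1 : P.index.factorization p ≤
        sInf ((fun χ : Cfsg.IrrCharacter (X ⧸ P) =>
          (Cfsg.charDegree (χ : X ⧸ P → ℂ)).factorization p) '' Bbar) := by omega
    exact le_trans h1 (Nat.sInf_le ⟨χb, hχb, rfl⟩)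
  exact le_antisymm hle hge

end Quot


section Over

variable {A B : Type*} [Group A] [Group B] [Fintype A] [Fintype B]

/-- expansion of the restriction of a character along its irreducible constituents -/
theorem classInner_comp_eq_sum [Fintype (Cfsg.IrrCharacter B)] (f : A →* B) {Ψ : B → ℂ}
    (hΨ : Cfsg.IsCharacter B Ψ) (θ : A → ℂ) :
    ∃ m : Cfsg.IrrCharacter B → ℕ,
      (∀ ψ : Cfsg.IrrCharacter B, Cfsg.classInner Ψ (ψ : B → ℂ) = m ψ) ∧
      Cfsg.classInner (fun a => Ψ (f a)) θ =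
        ∑ ψ : Cfsg.IrrCharacter B, (m ψ : ℂ) * Cfsg.classInner (fun a => (ψ : B → ℂ) (f a)) θ := by
  obtain ⟨m, hm, hΨeq⟩ := Cfsg.Agent.Lib.Helper75.char_eq_sum_irr hΨ
  refine ⟨m, hm, ?_⟩
  have h1 : (fun a => Ψ (f a)) =
      ∑ ψ : Cfsg.IrrCharacter B, (m ψ : ℂ) • (fun a => (ψ : B → ℂ) (f a)) := by
    funext a
    have := congrFun hΨeq (f a)
    rw [Finset.sum_apply] at this ⊢
    rw [this]
    rfl
  rw [h1, Cfsg.Agent.Lib.Helper75.classInner_sum_left]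
  apply Finset.sum_congr rfl
  intro ψ _
  rw [Cfsg.Agent.Lib.Helper75.classInner_smul_left]

/-- transitivity of "lying over" -/
theorem over_trans (f : A →* B) {Ψ : B → ℂ} (hΨ : Cfsg.IsCharacter B Ψ)
    (ψ : Cfsg.IrrCharacter B) (θ : Cfsg.IrrCharacter A)
    (h1 : Cfsg.classInner Ψ (ψ : B → ℂ) ≠ 0)
    (h2 : Cfsg.classInner (fun a => (ψ : B → ℂ) (f a)) (θ : A → ℂ) ≠ 0) :
    Cfsg.classInner (fun a => Ψ (f a)) (θ : A → ℂ) ≠ 0 := by
  classical
  have : Finite (Cfsg.IrrCharacter B) := Cfsg.Agent.Lib.Helper77.irr_finite B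
  haveI : Fintype (Cfsg.IrrCharacter B) := Fintype.ofFinite _
  obtain ⟨m, hm, hsum⟩ := classInner_comp_eq_sum f hΨ (θ : A → ℂ)
  choose n hn using fun ψ' : Cfsg.IrrCharacter B =>
    Cfsg.Agent.Lib.Helper75.classInner_char_irr_nat
      (Cfsg.Agent.Lib.Helper80.isCharacter_comp f (Cfsg.Agent.Lib.Helper3.isCharacter_of_irr ψ'.2))
      θ.2
  rw [hsum]
  have h3 : ∑ ψ' : Cfsg.IrrCharacter B, (m ψ' : ℂ) *
      Cfsg.classInner (fun a => (ψ' : B → ℂ) (f a)) (θ : A → ℂ) =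
      ((∑ ψ' : Cfsg.IrrCharacter B, m ψ' * n ψ' : ℕ) : ℂ) := by
    rw [Nat.cast_sum]
    apply Finset.sum_congr rfl
    intro ψ' _
    rw [hn ψ', Nat.cast_mul]
  rw [h3]
  have hmψ : m ψ ≠ 0 := by
    intro h0
    apply h1
    rw [hm ψ, h0, Nat.cast_zero]
  have hnψ : n ψ ≠ 0 := by
    intro h0
    apply h2
    rw [hn ψ, h0, Nat.cast_zero]
  have h4 : m ψ * n ψ ≤ ∑ ψ' : Cfsg.IrrCharacter B, m ψ' * n ψ' :=
    Finset.single_le_sum (f := fun ψ' => m ψ' * n ψ') (fun _ _ => Nat.zero_le _)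
      (Finset.mem_univ ψ)
  have h5 : 0 < m ψ * n ψ := Nat.mul_pos (Nat.pos_of_ne_zero hmψ) (Nat.pos_of_ne_zero hnψ)
  exact_mod_cast (lt_of_lt_of_le h5 h4).ne'

/-- an intermediate constituent -/
theorem exists_mid (f : A →* B) {Ψ : B → ℂ} (hΨ : Cfsg.IsCharacter B Ψ) (θ : A → ℂ)
    (h : Cfsg.classInner (fun a => Ψ (f a)) θ ≠ 0) :
    ∃ ψ : Cfsg.IrrCharacter B, Cfsg.classInner Ψ (ψ : B → ℂ) ≠ 0 ∧
      Cfsg.classInner (fun a => (ψ : B → ℂ) (f a)) θ ≠ 0 := by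
  classical
  have : Finite (Cfsg.IrrCharacter B) := Cfsg.Agent.Lib.Helper77.irr_finite B
  haveI : Fintype (Cfsg.IrrCharacter B) := Fintype.ofFinite _
  obtain ⟨m, hm, hsum⟩ := classInner_comp_eq_sum f hΨ θ
  rw [hsum] at h
  obtain ⟨ψ, -, hψ⟩ := Finset.exists_ne_zero_of_sum_ne_zero h
  refine ⟨ψ, ?_, ?_⟩
  · rw [hm ψ]
    intro h0
    apply hψ
    rw [h0, zero_mul]
  · intro h0
    apply hψ
    rw [h0, mul_zero]

omit [Fintype B] in
/-- the kernel of a character is contained in the kernel of each constituent of its restriction -/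
theorem ker_constituent (f : A →* B) {Ψ : B → ℂ} (hΨ : Cfsg.IsCharacter B Ψ)
    (θ : Cfsg.IrrCharacter A)
    (hne : Cfsg.classInner (fun a => Ψ (f a)) (θ : A → ℂ) ≠ 0) (x : A)
    (hx : Ψ (f x) = Ψ 1) : (θ : A → ℂ) x = (θ : A → ℂ) 1 := by
  classical
  have : Finite (Cfsg.IrrCharacter A) := Cfsg.Agent.Lib.Helper77.irr_finite A
  haveI : Fintype (Cfsg.IrrCharacter A) := Fintype.ofFinite _
  have hres : Cfsg.IsCharacter A (fun a => Ψ (f a)) :=
    Cfsg.Agent.Lib.Helper80.isCharacter_comp f hΨ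
  obtain ⟨m, hm, heq⟩ := Cfsg.Agent.Lib.Helper75.char_eq_sum_irr hres
  have hval : ∀ a : A, Ψ (f a) = ∑ ψ : Cfsg.IrrCharacter A, (m ψ : ℂ) * (ψ : A → ℂ) a := by
    intro a
    have := congrFun heq a
    rw [Finset.sum_apply] at this
    rw [this]
    rfl
  have hdeg : ∀ ψ : Cfsg.IrrCharacter A, (ψ : A → ℂ) 1 = (Cfsg.charDegree (ψ : A → ℂ) : ℂ) :=
    fun ψ => Cfsg.Agent.Lib.Helper80.char_one_eq_charDegree
      (Cfsg.Agent.Lib.Helper3.isCharacter_of_irr ψ.2)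
  have hnorm : ∀ ψ : Cfsg.IrrCharacter A, ((ψ : A → ℂ) x).re ≤ Cfsg.charDegree (ψ : A → ℂ) :=
    fun ψ => le_trans (Complex.re_le_norm _)
      (Cfsg.Agent.Lib.Helper80.norm_char_le_charDegree
        (Cfsg.Agent.Lib.Helper3.isCharacter_of_irr ψ.2) x)
  have h1 : ∑ ψ : Cfsg.IrrCharacter A, (m ψ : ℂ) * (ψ : A → ℂ) x =
      ∑ ψ : Cfsg.IrrCharacter A, (m ψ : ℂ) * (ψ : A → ℂ) 1 := by
    rw [← hval x, ← hval 1, map_one, hx]
  have h2 : ∑ ψ : Cfsg.IrrCharacter A,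
      (m ψ : ℝ) * ((Cfsg.charDegree (ψ : A → ℂ) : ℝ) - ((ψ : A → ℂ) x).re) = 0 := by
    have h3 := congrArg Complex.re h1
    rw [Complex.re_sum, Complex.re_sum] at h3
    have e1 : ∀ ψ : Cfsg.IrrCharacter A, ((m ψ : ℂ) * (ψ : A → ℂ) x).re =
        (m ψ : ℝ) * ((ψ : A → ℂ) x).re := by
      intro ψ
      rw [Complex.mul_re]
      simp
    have e2 : ∀ ψ : Cfsg.IrrCharacter A, ((m ψ : ℂ) * (ψ : A → ℂ) 1).re =
        (m ψ : ℝ) * (Cfsg.charDegree (ψ : A → ℂ) : ℝ) := by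
      intro ψ
      rw [hdeg ψ, Complex.mul_re]
      simp
    rw [Finset.sum_congr rfl (fun ψ _ => e1 ψ), Finset.sum_congr rfl (fun ψ _ => e2 ψ)] at h3
    have : ∑ ψ : Cfsg.IrrCharacter A,
        (m ψ : ℝ) * ((Cfsg.charDegree (ψ : A → ℂ) : ℝ) - ((ψ : A → ℂ) x).re) =
        ∑ ψ : Cfsg.IrrCharacter A, (m ψ : ℝ) * (Cfsg.charDegree (ψ : A → ℂ) : ℝ) -
        ∑ ψ : Cfsg.IrrCharacter A, (m ψ : ℝ) * ((ψ : A → ℂ) x).re := by
      rw [← Finset.sum_sub_distrib]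
      apply Finset.sum_congr rfl
      intro ψ _
      ring
    rw [this, h3, sub_self]
  have h4 := (Finset.sum_eq_zero_iff_of_nonneg (fun ψ _ =>
    mul_nonneg (Nat.cast_nonneg _) (sub_nonneg.mpr (hnorm ψ)))).mp h2 θ (Finset.mem_univ θ)
  have hmθ : (m θ : ℝ) ≠ 0 := by
    intro h0
    apply hne
    rw [hm θ]
    exact_mod_cast h0
  have hre : ((θ : A → ℂ) x).re = (Cfsg.charDegree (θ : A → ℂ) : ℝ) := by
    rcases mul_eq_zero.mp h4 with h | h
    · exact absurd h hmθ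
    · linarith
  have hn := Cfsg.Agent.Lib.Helper80.norm_char_le_charDegree
    (Cfsg.Agent.Lib.Helper3.isCharacter_of_irr θ.2) x
  have him : ((θ : A → ℂ) x).im = 0 := by
    have h5 : ‖(θ : A → ℂ) x‖ ^ 2 = ((θ : A → ℂ) x).re ^ 2 + ((θ : A → ℂ) x).im ^ 2 := by
      rw [Complex.sq_norm, Complex.normSq_apply]
      ring
    have h6 : ‖(θ : A → ℂ) x‖ ^ 2 ≤ (Cfsg.charDegree (θ : A → ℂ) : ℝ) ^ 2 :=
      pow_le_pow_left₀ (norm_nonneg _) hn 2
    rw [h5, hre] at h6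
    have h7 : ((θ : A → ℂ) x).im ^ 2 ≤ 0 := by linarith
    have h8 : ((θ : A → ℂ) x).im ^ 2 = 0 := le_antisymm h7 (sq_nonneg _)
    exact pow_eq_zero_iff (two_ne_zero) |>.mp h8
  rw [hdeg θ]
  apply Complex.ext
  · rw [hre]; simp
  · rw [him]; simp

end Over

section ClaimZ

variable {Γ : Type*} [Group Γ] [Fintype Γ] {p : ℕ} [Fact p.Prime] {M : Ideal Cfsg.AlgInt}

/-- **Claim Z.**  If `B` is a block of `Γ` with a normal defect group `P`, and `Ξ` is a normal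
subgroup containing `P` such that every element of `Ξ` has a `p`-power centralizing `P`, then
every block of `Ξ` covered by `B` has defect group `P`. -/
theorem claimZ (hM : Cfsg.IsPModular p M) (P : Subgroup Γ) [hPn : P.Normal] (hP : IsPGroup p P)
    (B : Set (Cfsg.IrrCharacter Γ)) (hB : Cfsg.IsPBlock M B) (hD : Cfsg.IsDefectGroup p M B P)
    (Ξ : Subgroup Γ) [hΞ : Ξ.Normal] [Fintype Ξ] (hPΞ : P ≤ Ξ)
    (hC : ∀ x ∈ Ξ, ∃ k : ℕ, x ^ (p ^ k) ∈ Subgroup.centralizer (P : Set Γ))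
    (c : Set (Cfsg.IrrCharacter Ξ)) (hc : Cfsg.IsPBlock M c)
    (hcov : ∃ χ ∈ B, ∃ θ ∈ c,
      Cfsg.classInner (fun n : Ξ => (χ : Γ → ℂ) n) (θ : Ξ → ℂ) ≠ 0) :
    Cfsg.IsDefectGroup p M c (P.subgroupOf Ξ) := by
  classical
  have hp : p.Prime := Fact.out
  have hMp := isPrime_of_isPModular hM
  obtain ⟨Φ, hΦB, hΦker, hΦdeg⟩ := exists_special hM P hP B hB hD
  obtain ⟨χ, hχ, θ, hθ, hne⟩ := hcov
  obtain ⟨ζ, hζc, hζne⟩ := cover_all Ξ hMp hB hc hχ hθ hne hΦB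
  haveI hPΞn : (P.subgroupOf Ξ).Normal := hPn.subgroupOf Ξ
  have hPΞp : IsPGroup p (P.subgroupOf Ξ) := hP.comap_subtype
  -- the kernel
  have hζker : ∀ x ∈ P.subgroupOf Ξ, (ζ : Ξ → ℂ) x = (ζ : Ξ → ℂ) 1 := by
    intro x hx
    exact ker_constituent Ξ.subtype (Cfsg.Agent.Lib.Helper3.isCharacter_of_irr Φ.2) ζ hζne x
      (hΦker _ (Subgroup.mem_subgroupOf.mp hx))
  -- the centralizer has `p`-power index
  have hC' : ∃ k : ℕ, (Subgroup.centralizer ((P.subgroupOf Ξ : Subgroup Ξ) : Set Ξ)).index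
      = p ^ k := by
    haveI : (Subgroup.centralizer ((P.subgroupOf Ξ : Subgroup Ξ) : Set Ξ)).Normal :=
      Subgroup.normal_centralizer
    have hpg : IsPGroup p (Ξ ⧸ Subgroup.centralizer ((P.subgroupOf Ξ : Subgroup Ξ) : Set Ξ)) := by
      intro q
      obtain ⟨x, rfl⟩ := QuotientGroup.mk_surjective q
      obtain ⟨k, hk⟩ := hC (x : Γ) x.2
      refine ⟨k, ?_⟩
      rw [← QuotientGroup.mk_pow, QuotientGroup.eq_one_iff, Subgroup.mem_centralizer_iff]
      intro y hy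
      apply Subtype.ext
      have := Subgroup.mem_centralizer_iff.mp hk (y : Γ) (Subgroup.mem_subgroupOf.mp hy)
      simpa using this
    obtain ⟨n, hn⟩ := (IsPGroup.iff_card).mp hpg
    exact ⟨n, by rw [Subgroup.index_eq_card, hn]⟩
  -- degrees
  have hΦ1 := Cfsg.Agent.Lib.Helper80.char_one_eq_charDegree
    (Cfsg.Agent.Lib.Helper3.isCharacter_of_irr Φ.2)
  have hζ1 := Cfsg.Agent.Lib.Helper80.char_one_eq_charDegree
    (Cfsg.Agent.Lib.Helper3.isCharacter_of_irr ζ.2)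
  obtain ⟨hdc, hquot⟩ := Cfsg.Agent.S0887.result Ξ (Φ : Γ → ℂ) Φ.2 (ζ : Ξ → ℂ) ζ.2 hζne
    (Cfsg.charDegree (Φ : Γ → ℂ)) (Cfsg.charDegree (ζ : Ξ → ℂ)) hΦ1 hζ1
  have hdeg : (Cfsg.charDegree (ζ : Ξ → ℂ)).factorization p =
      (P.subgroupOf Ξ).index.factorization p := by
    have hc0 : Cfsg.charDegree (Φ : Γ → ℂ) ≠ 0 :=
      (Cfsg.Agent.Lib.Helper80.charDegree_pos Φ.2).ne'
    have hd0 : Cfsg.charDegree (ζ : Ξ → ℂ) ≠ 0 :=
      (Cfsg.Agent.Lib.Helper80.charDegree_pos ζ.2).ne'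
    have hΞ0 : Ξ.index ≠ 0 := Subgroup.index_ne_zero_of_finite
    have hPΞ0 : (P.subgroupOf Ξ).index ≠ 0 := Subgroup.index_ne_zero_of_finite
    have hq0 : Cfsg.charDegree (Φ : Γ → ℂ) / Cfsg.charDegree (ζ : Ξ → ℂ) ≠ 0 := by
      intro h0
      rw [h0] at hquot
      exact hΞ0 (Nat.eq_zero_of_zero_dvd hquot)
    -- index relation
    have hidx : (P.subgroupOf Ξ).index * Ξ.index = P.index := Subgroup.relIndex_mul_index hPΞ
    have hfac1 : P.index.factorization p =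
        (P.subgroupOf Ξ).index.factorization p + Ξ.index.factorization p := by
      rw [← hidx, Nat.factorization_mul hPΞ0 hΞ0]; rfl
    have hfac2 : (Cfsg.charDegree (Φ : Γ → ℂ)).factorization p =
        (Cfsg.charDegree (ζ : Ξ → ℂ)).factorization p +
        (Cfsg.charDegree (Φ : Γ → ℂ) / Cfsg.charDegree (ζ : Ξ → ℂ)).factorization p := by
      conv_lhs => rw [← Nat.mul_div_cancel' hdc]
      rw [Nat.factorization_mul hd0 hq0]; rfl
    have hle1 : (Cfsg.charDegree (Φ : Γ → ℂ) / Cfsg.charDegree (ζ : Ξ → ℂ)).factorization p ≤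
        Ξ.index.factorization p :=
      (Nat.factorization_le_iff_dvd hq0 hΞ0).mpr hquot p
    -- upper bound through the quotient
    have hle2 : (Cfsg.charDegree (ζ : Ξ → ℂ)).factorization p ≤
        (P.subgroupOf Ξ).index.factorization p := by
      let ζb : Cfsg.IrrCharacter (Ξ ⧸ P.subgroupOf Ξ) :=
        Cfsg.Agent.Lib.Helper80.deflateIrr (P.subgroupOf Ξ) ⟨ζ, hζker⟩
      have hζb1 : (ζb : Ξ ⧸ P.subgroupOf Ξ → ℂ) 1 = (ζ : Ξ → ℂ) 1 :=
        Cfsg.Agent.Lib.Helper80.deflateIrr_apply (P.subgroupOf Ξ) ⟨ζ, hζker⟩ 1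
      have hdegb : Cfsg.charDegree (ζb : Ξ ⧸ P.subgroupOf Ξ → ℂ) =
          Cfsg.charDegree (ζ : Ξ → ℂ) := by
        unfold Cfsg.charDegree
        rw [hζb1]
      have hdvd : Cfsg.charDegree (ζb : Ξ ⧸ P.subgroupOf Ξ → ℂ) ∣
          Nat.card (Ξ ⧸ P.subgroupOf Ξ) :=
        Cfsg.Agent.Lib.Helper80.charDegree_dvd_card ζb.2
      rw [hdegb, ← Subgroup.index_eq_card] at hdvd
      exact (Nat.factorization_le_iff_dvd hd0 hPΞ0).mpr hdvd p
    omega
  have := defect_of_defect_zero_mod hM (P.subgroupOf Ξ) hPΞp hC' ζ hζker hdeg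
  rw [IsPBlock.eq_blockOf hMp hc hζc]
  exact this

end ClaimZ

end Cfsg.Agent.Lib.Helper3.KnorrZ
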