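import Mathlib
import Cfsg.Prelude.Def_Blocks
import Cfsg.Prelude.Def_BlockLocal
import Cfsg.Agent.Lib.Helper3.KnorrZ
import Cfsg.Agent.Lib.Helper3.KnorrGrp
import Cfsg.Agent.Lib.Helper3.KnorrTr
import Cfsg.Agent.Lib.Helper32.StabDefect
import Cfsg.Agent.Lib.Helper78.ExtFirstMain
import Cfsg.Agent.Lib.Helper16.FongReynolds
import Cfsg.Agent.S4437
import Cfsg.Agent.S0973
import Cfsg.Agent.S0919
import Cfsg.Agent.S0965
import Cfsg.Agent.S0964

/-!
# The core of Knörr's theorem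

Let `N` be a normal subgroup of `G`, `b` a `G`-invariant block of `N` and `B` a block of `G`
covering `b`.  If a defect group `P` of `B` lies in `N`, then `P` is a defect group of `b`.

The proof goes through the Brauer correspondent `b_P` of `B` in `L = P C_G(P)`: a block `β` of
`X = L ∩ N = P C_N(P)` covered by `b_P` has defect group `P` (`KnorrZ.claimZ`) and induces `b`;
by the criterion for the defect group of an induced block (`S4437`) it remains to see that a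
`p`-element `u` of `N_N(P)` stabilizing `β` lies in `X`, which follows by comparing the defects
of a block of `(L ⟨u⟩) ∩ N` covered by the block `b_P` induces in `L ⟨u⟩`.
-/

set_option autoImplicit false
set_option linter.unusedSectionVars false
set_option linter.unusedVariables false
set_option linter.style.haveILetI false

namespace Cfsg.Agent.Lib.Helper3.KnorrCore

open Cfsg Cfsg.Agent.Lib.Helper16 Cfsg.Agent.Lib.Helper77

universe u

section Abstract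

variable {Γ : Type*} [Group Γ] [Fintype Γ] {p : ℕ} [Fact p.Prime] {M : Ideal Cfsg.AlgInt}

/-- Let `B` be a block of `Γ` with normal defect group `P`, `Ξ` a normal subgroup containing `P`
whose elements have `p`-powers centralizing `P`, and `Y ≤ Ξ` a normal subgroup containing
`C_Ξ(P)` with a `Ξ`-stable block `β` of defect `|P|` lying under `B`.  Then `p` does not divide
`|Ξ : Y|`. -/
theorem not_dvd_relIndex_of_cover (hM : Cfsg.IsPModular p M) (P : Subgroup Γ) [hPn : P.Normal]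
    (hP : IsPGroup p P) (B : Set (Cfsg.IrrCharacter Γ)) (hB : Cfsg.IsPBlock M B)
    (hD : Cfsg.IsDefectGroup p M B P) (Ξ : Subgroup Γ) [hΞ : Ξ.Normal] [Fintype Ξ] (hPΞ : P ≤ Ξ)
    (hC : ∀ x ∈ Ξ, ∃ k : ℕ, x ^ (p ^ k) ∈ Subgroup.centralizer (P : Set Γ))
    (Y : Subgroup Γ) [hY : Y.Normal] [Fintype Y] (hYΞ : Y ≤ Ξ)
    (hCY : ∀ x ∈ Ξ, x ∈ Subgroup.centralizer (P : Set Γ) → x ∈ Y)
    (β : Set (Cfsg.IrrCharacter Y)) (hβ : Cfsg.IsPBlock M β)
    (hcard : Nat.card P = p ^ Cfsg.blockDefect p β)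
    (hst : ∀ x ∈ Ξ, Cfsg.StabilizesBlock Y β x)
    (hcov : ∃ Φ ∈ B, ∃ ξ ∈ β,
      Cfsg.classInner (fun y : Y => (Φ : Γ → ℂ) y) (ξ : Y → ℂ) ≠ 0) :
    ¬ p ∣ Y.relIndex Ξ := by
  classical
  have hp : p.Prime := Fact.out
  have hMp := isPrime_of_isPModular hM
  obtain ⟨Φ, hΦ, ξ, hξ, hne⟩ := hcov
  have hΨ : Cfsg.IsCharacter Ξ (fun x : Ξ => (Φ : Γ → ℂ) x) :=
    Cfsg.Agent.Lib.Helper80.isCharacter_comp Ξ.subtype
      (Cfsg.Agent.Lib.Helper3.isCharacter_of_irr Φ.2)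
  obtain ⟨ζ, hζ1, hζ2⟩ := Cfsg.Agent.Lib.Helper3.KnorrZ.exists_mid (Subgroup.inclusion hYΞ) hΨ
    (ξ : Y → ℂ) hne
  -- the block of `ζ`
  have hF : Cfsg.IsPBlock M (Cfsg.blockOf M (ζ : Ξ → ℂ)) := ⟨ζ, rfl⟩
  have hFD := Cfsg.Agent.Lib.Helper3.KnorrZ.claimZ hM P hP B hB hD Ξ hPΞ hC
    (Cfsg.blockOf M (ζ : Ξ → ℂ)) hF ⟨Φ, hΦ, ζ, mem_blockOf_self hMp ζ, hζ1⟩
  have hcardF := Cfsg.Agent.Lib.Helper77.card_isDefectGroup hM _ hF _ hFD
  have hcardP : Nat.card (P.subgroupOf Ξ) = Nat.card P :=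
    Nat.card_congr (Subgroup.subgroupOfEquivOfLe hPΞ).toEquiv
  -- the stabilizer computation inside `Ξ`
  haveI : Fintype (Y.subgroupOf Ξ) := Fintype.ofFinite _
  haveI hQn : (P.subgroupOf Ξ).Normal := hPn.subgroupOf Ξ
  haveI hYn : (Y.subgroupOf Ξ).Normal := hY.subgroupOf Ξ
  haveI : Fintype (⊤ : Subgroup Ξ) := Fintype.ofFinite _
  have hCN : Subgroup.centralizer ((P.subgroupOf Ξ : Subgroup Ξ) : Set Ξ) ≤ Y.subgroupOf Ξ := by
    intro x hx
    rw [Subgroup.mem_subgroupOf]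
    apply hCY x x.2
    rw [Subgroup.mem_centralizer_iff]
    intro y hy
    have := Subgroup.mem_centralizer_iff.mp hx ⟨y, hPΞ hy⟩ (Subgroup.mem_subgroupOf.mpr hy)
    exact congrArg Subtype.val this
  have hb' : Cfsg.IsPBlock M (subBlock Y Ξ hYΞ β) := isPBlock_mapSet hMp _ hβ
  have hinv : ∀ g ∈ Ξ, ∀ θ ∈ β, conjIrr Y θ g ∈ β := fun g hg θ hθ =>
    Cfsg.Agent.Lib.Helper3.KnorrTr.conjIrr_mem_of_stabilizes Y (hst g hg) hθ
  have hstab : ∀ g : Ξ, g ∈ (⊤ : Subgroup Ξ) ↔ ∀ θ ∈ subBlock Y Ξ hYΞ β,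
      conjIrr (Y.subgroupOf Ξ) θ g ∈ subBlock Y Ξ hYΞ β := by
    intro g
    constructor
    · intro _ θ hθ
      exact subBlock_stable Y Ξ hYΞ hinv θ hθ g
    · intro _
      exact Subgroup.mem_top g
  have hcovF : ∃ χ ∈ Cfsg.blockOf M (ζ : Ξ → ℂ), ∃ θ ∈ subBlock Y Ξ hYΞ β,
      Cfsg.classInner (fun n : Y.subgroupOf Ξ => (χ : Ξ → ℂ) n)
        (θ : Y.subgroupOf Ξ → ℂ) ≠ 0 := by
    refine ⟨ζ, mem_blockOf_self hMp ζ, ?_⟩
    exact (over_iff_sub Y Ξ hYΞ β (ζ : Ξ → ℂ)).mpr ⟨ξ, hξ, hζ2⟩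
  have hdef := Cfsg.Agent.Lib.Helper32.stab_defect_eq hM (P.subgroupOf Ξ) hP.comap_subtype
    (Y.subgroupOf Ξ) hCN (subBlock Y Ξ hYΞ β) hb' ⊤ le_top hstab _ hF hcovF
  have hdβ : Cfsg.blockDefect p (subBlock Y Ξ hYΞ β) = Cfsg.blockDefect p β :=
    Cfsg.Agent.Lib.Helper32.blockDefect_mapSet _ p β
  rw [hdβ] at hdef
  have hrel : (Y.subgroupOf Ξ).relIndex ⊤ = Y.relIndex Ξ := by
    rw [Subgroup.relIndex_top_right]
    rfl
  rw [hrel] at hdef
  have h1 : p ^ Cfsg.blockDefect p (Cfsg.blockOf M (ζ : Ξ → ℂ)) = p ^ Cfsg.blockDefect p β := by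
    rw [← hcardF, hcardP, hcard]
  have h2 := Nat.pow_right_injective hp.two_le h1
  have h3 : (Y.relIndex Ξ).factorization p = 0 := by omega
  have hrel0 : Y.relIndex Ξ ≠ 0 := by
    show (Y.subgroupOf Ξ).index ≠ 0
    exact Subgroup.index_ne_zero_of_finite
  rcases (Nat.factorization_eq_zero_iff _ _).mp h3 with h | h | h
  · exact absurd hp h
  · exact h
  · exact absurd h hrel0

end Abstract

section Main

variable {G : Type u} [Group G] [Fintype G] {p : ℕ} [Fact p.Prime] {M : Ideal Cfsg.AlgInt}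

/-- **Covering through induction.**  Let `Bt` be a block of the subgroup `H` inducing the block
`B` of `G`, `N` a normal subgroup, `X = H ∩ N`, and `β` a block of `X` lying under `Bt`.  If the
block of `N` induced by `β` is `b`, then the central characters of `B` and of `b` agree on the
classes contained in `N` (so that `B` covers `b`). -/
theorem cover_of_induced (hM : Cfsg.IsPModular p M) (N : Subgroup G) [hN : N.Normal] [Fintype N]
    (H : Subgroup G) [Fintype H] (X : Subgroup G) [Fintype X] (hX : X = H ⊓ N) (hXH : X ≤ H)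
    (hXN : X ≤ N) (Bt : Set (Cfsg.IrrCharacter H)) (B : Set (Cfsg.IrrCharacter G))
    (hind : Cfsg.IsInducedBlock M H Bt B) (β : Set (Cfsg.IrrCharacter X))
    (hcov : ∃ φ ∈ Bt, ∃ ξ ∈ β,
      Cfsg.classInner (fun x : X => (φ : H → ℂ) ⟨x, hXH x.2⟩) (ξ : X → ℂ) ≠ 0)
    (b : Set (Cfsg.IrrCharacter N))
    (hind' : Cfsg.IsInducedBlock M (X.subgroupOf N) (pullSet hXN β) b) :
    ∀ χ ∈ B, ∀ θ ∈ b, ∀ n : N, Cfsg.MemLocalIdeal M
      (Cfsg.centralChar (χ : G → ℂ) (n : G) - Cfsg.inducedCentralChar N (θ : N → ℂ) (n : G)) := by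
  classical
  have hMp := isPrime_of_isPModular hM
  obtain ⟨φ, hφ, ξ, hξ, hne⟩ := hcov
  intro χ hχ θ hθ n
  haveI : Fintype (X.subgroupOf H) := Fintype.ofFinite _
  haveI : Fintype (X.subgroupOf N) := Fintype.ofFinite _
  haveI hXn : (X.subgroupOf H).Normal := by
    rw [hX, Subgroup.inf_subgroupOf_left]
    exact hN.subgroupOf H
  -- from `G` to `H`
  have A1 := omega_resFun_sub hMp H (φ : H → ℂ) χ (hind.2.2 φ hφ χ hχ)
    (isRClass_classInd hMp (n : G))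
  -- from `H` to `X`
  have hne' : Cfsg.classInner (fun m : X.subgroupOf H => (φ : H → ℂ) m)
      (mapIrr (Subgroup.subgroupOfEquivOfLe hXH).symm ξ : X.subgroupOf H → ℂ) ≠ 0 := by
    have e1 := Cfsg.Agent.Lib.Helper3.KnorrTr.classInner_comp_equiv
      (Subgroup.subgroupOfEquivOfLe hXH) (fun x : X => (φ : H → ℂ) ⟨x, hXH x.2⟩) (ξ : X → ℂ)
    have e3 : (mapIrr (Subgroup.subgroupOfEquivOfLe hXH).symm ξ : X.subgroupOf H → ℂ) =
        fun a : X.subgroupOf H => (ξ : X → ℂ) (Subgroup.subgroupOfEquivOfLe hXH a) := by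
      funext a
      rw [mapIrr_apply]
      rfl
    rw [e3]
    rw [← e1] at hne
    exact hne
  have A2 : omega (φ : H → ℂ) (resFun H (classInd (n : G))) =
      omega (mapIrr (Subgroup.subgroupOfEquivOfLe hXH).symm ξ : X.subgroupOf H → ℂ)
        (resFun (X.subgroupOf H) (resFun H (classInd (n : G)))) := by
    apply Cfsg.Agent.Lib.Helper3.KnorrTr.omega_eq_of_over (X.subgroupOf H) hne'
      (isRClass_resFun H (isRClass_classInd hMp (n : G))).1
    intro h hh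
    unfold resFun classInd
    rw [if_neg]
    intro hc
    apply hh
    rw [Subgroup.mem_subgroupOf, hX]
    refine ⟨h.2, ?_⟩
    obtain ⟨c, hc⟩ := isConj_iff.mp hc
    rw [← hc]
    exact hN.conj_mem _ n.2 c
  rw [A2, Cfsg.Agent.Lib.Helper3.KnorrTr.omega_pull hXH ξ] at A1
  -- from `N` to `X`
  have hξN : mapIrr (Subgroup.subgroupOfEquivOfLe hXN).symm ξ ∈ pullSet hXN β := ⟨ξ, hξ, rfl⟩
  have A3 := omega_resFun_sub hMp (X.subgroupOf N)
    (mapIrr (Subgroup.subgroupOfEquivOfLe hXN).symm ξ : X.subgroupOf N → ℂ) θ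
    (hind'.2.2 _ hξN θ hθ) (α := resFun N (classInd (n : G)))
    (isRClass_resFun N (isRClass_classInd hMp (n : G)))
  rw [Cfsg.Agent.Lib.Helper3.KnorrTr.omega_pull hXN ξ] at A3
  rw [← omega_classInd (irrCharacter_conj_eq χ), ← omega_resFun_classInd]
  have := memLocalIdeal_sub hMp A3 A1
  rwa [sub_sub_sub_cancel_left] at this

/-- **The stabilizer of `β` in `N_N(P)` has no `p`-elements outside `X`.** -/
theorem mem_of_stabilizes (hM : Cfsg.IsPModular p M) (N : Subgroup G) [hN : N.Normal]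
    (B : Set (Cfsg.IrrCharacter G)) (hB : Cfsg.IsPBlock M B) (P : Subgroup G)
    (hP : Cfsg.IsDefectGroup p M B P) (hPN : P ≤ N)
    (L : Subgroup G) [Fintype L] (hL : L = P ⊔ Subgroup.centralizer (P : Set G))
    (bP : Set (Cfsg.IrrCharacter L)) (hind : Cfsg.IsInducedBlock M L bP B)
    (X : Subgroup G) [Fintype X] (hX : X = L ⊓ N) (hXL : X ≤ L)
    (β : Set (Cfsg.IrrCharacter X)) (hβ : Cfsg.IsPBlock M β)
    (hβcard : Nat.card P = p ^ Cfsg.blockDefect p β)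
    (hcov : ∃ φ ∈ bP, ∃ ξ ∈ β,
      Cfsg.classInner (fun x : X => (φ : L → ℂ) ⟨x, hXL x.2⟩) (ξ : X → ℂ) ≠ 0)
    (u : G) (huN : u ∈ N) (huP : u ∈ Subgroup.normalizer (P : Set G))
    (hust : Cfsg.StabilizesBlock X β u) (k : ℕ) (huk : u ^ (p ^ k) = 1) : u ∈ X := by
  classical
  have hp : p.Prime := Fact.out
  have hMp := isPrime_of_isPModular hM
  have hPp : IsPGroup p P := isPGroup_of_isDefectGroup hP
  have hPL : P ≤ L := by rw [hL]; exact le_sup_left
  have hCL : Subgroup.centralizer (P : Set G) ≤ L := by rw [hL]; exact le_sup_right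
  have hLN : L ≤ Subgroup.normalizer (P : Set G) := by
    rw [hL]
    exact sup_le Subgroup.le_normalizer (Subgroup.centralizer_le_normalizer _)
  have hNL : Subgroup.normalizer (P : Set G) ≤ Subgroup.normalizer (L : Set G) := by
    rw [hL]
    exact Cfsg.Agent.Lib.Helper78.efm_normalizer_le P
  have huL : u ∈ Subgroup.normalizer (L : Set G) := hNL huP
  have hXN : X ≤ N := by rw [hX]; exact inf_le_right
  -- the subgroup `Γ = L ⟨u⟩`
  obtain ⟨Γ, hΓdef⟩ : ∃ Γ : Subgroup G, Γ = Cfsg.Agent.Lib.Helper3.KnorrGrp.gam L u huL :=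
    ⟨_, rfl⟩
  have hLΓ : L ≤ Γ := by
    rw [hΓdef]; exact Cfsg.Agent.Lib.Helper3.KnorrGrp.le_gam L u huL
  have huΓ : u ∈ Γ := by
    rw [hΓdef]; exact Cfsg.Agent.Lib.Helper3.KnorrGrp.self_mem_gam L u huL
  have hΓP : Γ ≤ Subgroup.normalizer (P : Set G) := by
    rw [hΓdef]; exact Cfsg.Agent.Lib.Helper3.KnorrGrp.gam_le L u huL hLN huP
  have hΓL : Γ ≤ Subgroup.normalizer (L : Set G) := by
    rw [hΓdef]; exact Cfsg.Agent.Lib.Helper3.KnorrGrp.gam_le L u huL Subgroup.le_normalizer huL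
  have hΓX : Γ ≤ Subgroup.normalizer (X : Set G) := by
    intro g hg
    rw [Subgroup.mem_normalizer_iff]
    intro x
    rw [hX, Subgroup.mem_inf, Subgroup.mem_inf]
    have h1 := Subgroup.mem_normalizer_iff.mp (hΓL hg) x
    have h2 : x ∈ N ↔ g * x * g⁻¹ ∈ N :=
      ⟨fun h => hN.conj_mem x h g, fun h => by
        have := hN.conj_mem _ h g⁻¹
        simpa [mul_assoc] using this⟩
    rw [h1, h2]
  have hPΓ : P ≤ Γ := hPL.trans hLΓ
  have hCΓ : Subgroup.centralizer (P : Set G) ≤ Γ := hCL.trans hLΓ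
  have hXΓ : X ≤ Γ := hXL.trans hLΓ
  haveI : Fintype Γ := Fintype.ofFinite _
  haveI : Fintype (L.subgroupOf Γ) := Fintype.ofFinite _
  haveI : Fintype (X.subgroupOf Γ) := Fintype.ofFinite _
  haveI : Fintype (N.subgroupOf Γ) := Fintype.ofFinite _
  haveI hQn : (P.subgroupOf Γ).Normal := (Subgroup.normal_subgroupOf_iff_le_normalizer hPΓ).mpr hΓP
  haveI hLn : (L.subgroupOf Γ).Normal := (Subgroup.normal_subgroupOf_iff_le_normalizer hLΓ).mpr hΓL
  haveI hXn : (X.subgroupOf Γ).Normal := (Subgroup.normal_subgroupOf_iff_le_normalizer hXΓ).mpr hΓX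
  haveI hNn : (N.subgroupOf Γ).Normal := hN.subgroupOf Γ
  have hQ : IsPGroup p (P.subgroupOf Γ) := hPp.comap_subtype
  -- the block of `Γ`
  obtain ⟨φ, hφ, ξ, hξ, hφξ⟩ := hcov
  have hbP : Cfsg.IsPBlock M bP := hind.1
  have hbPΓ : Cfsg.IsPBlock M (pullSet hLΓ bP) := isPBlock_pullSet hMp hLΓ hbP
  have hφ1 : mapIrr (Subgroup.subgroupOfEquivOfLe hLΓ).symm φ ∈ pullSet hLΓ bP := ⟨φ, hφ, rfl⟩
  obtain ⟨Φ₀, hΦ₀⟩ := exists_irr_over (L.subgroupOf Γ)
    (mapIrr (Subgroup.subgroupOfEquivOfLe hLΓ).symm φ)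
  have hBΓ : Cfsg.IsPBlock M (Cfsg.blockOf M (Φ₀ : Γ → ℂ)) := ⟨Φ₀, rfl⟩
  have hCNΓ : Subgroup.centralizer ((P.subgroupOf Γ : Subgroup Γ) : Set Γ) ≤ L.subgroupOf Γ := by
    intro x hx
    rw [Subgroup.mem_subgroupOf]
    apply hCL
    rw [Subgroup.mem_centralizer_iff]
    intro y hy
    have := Subgroup.mem_centralizer_iff.mp hx ⟨y, hPΓ hy⟩ (Subgroup.mem_subgroupOf.mpr hy)
    exact congrArg Subtype.val this
  have hindΓ := Cfsg.Agent.Lib.Helper32.cover_induced hM (P.subgroupOf Γ) hQ (L.subgroupOf Γ)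
    hCNΓ (pullSet hLΓ bP) hbPΓ _ hBΓ ⟨Φ₀, mem_blockOf_self hMp Φ₀, _, hφ1, hΦ₀⟩
  obtain ⟨B', hB'⟩ := Cfsg.Agent.S0919.result p M hM P Γ hPp hPΓ hCΓ hΓP _ hBΓ
  have h3 := Cfsg.Agent.Lib.Helper78.efm_trans hMp hLΓ bP _ B' hindΓ hB'
  have hBB' : B' = B := Cfsg.Agent.Lib.Helper78.efm_unique hMp h3 hind
  rw [hBB'] at hB'
  have hBΓD := Cfsg.Agent.Lib.Helper78.efm_isDefectGroup hM B hB P hP Γ hPΓ hΓP _ hB'
  -- stability
  have hstabX : X ≤ Cfsg.Agent.Lib.Helper3.KnorrTr.stabSub hMp X β hβ := fun x hx =>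
    Cfsg.Agent.Lib.Helper3.KnorrTr.stabilizesBlock_of_mem X β hx
  have hdecomp : ∀ g ∈ Γ, g ∈ N → ∃ l ∈ X, ∃ i : ℤ, g = l * u ^ i := by
    intro g hg hgN
    rw [hΓdef] at hg
    obtain ⟨l, hl, i, rfl⟩ := hg
    have hlN : l ∈ N := by
      have h1 : l * u ^ i * (u ^ i)⁻¹ ∈ N := N.mul_mem hgN (N.inv_mem (zpow_mem huN i))
      rwa [mul_inv_cancel_right] at h1
    exact ⟨l, by rw [hX]; exact ⟨hl, hlN⟩, i, rfl⟩
  have hstΓ : ∀ g ∈ Γ, g ∈ N → Cfsg.StabilizesBlock X β g := by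
    intro g hg hgN
    obtain ⟨l, hlX, i, rfl⟩ := hdecomp g hg hgN
    exact (Cfsg.Agent.Lib.Helper3.KnorrTr.stabSub hMp X β hβ).mul_mem (hstabX hlX)
      (zpow_mem (show u ∈ Cfsg.Agent.Lib.Helper3.KnorrTr.stabSub hMp X β hβ from hust) i)
  -- `p`-powers
  obtain ⟨j, hj⟩ := IsPGroup.iff_card.mp hPp
  have hCpow : ∀ g ∈ Γ, g ∈ N → g ^ (p ^ (k + j)) ∈ Subgroup.centralizer (P : Set G) := by
    intro g hg hgN
    obtain ⟨l, hlX, i, rfl⟩ := hdecomp g hg hgN
    obtain ⟨x', hx', hpow⟩ := Cfsg.Agent.Lib.Helper3.KnorrGrp.mul_pow_eq X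
      (zpow_mem hust.1 i) hlX (p ^ k)
    have hui : (u ^ i) ^ (p ^ k) = 1 := by
      rw [← zpow_natCast, ← zpow_mul, mul_comm, zpow_mul, zpow_natCast, huk, one_zpow]
    rw [hui, mul_one] at hpow
    rw [pow_add, pow_mul, hpow, ← hj]
    exact Cfsg.Agent.Lib.Helper3.KnorrGrp.pow_card_mem_centralizer P
      (by rw [← hL]; exact hXL hx')
  -- the abstract lemma inside `Γ`
  have hXLΓ : X.subgroupOf Γ ≤ L.subgroupOf Γ := fun x hx => hXL hx
  have hE2 := not_dvd_relIndex_of_cover hM (P.subgroupOf Γ) hQ _ hBΓ hBΓD (N.subgroupOf Γ)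
    (fun x hx => hPN hx)
    (by
      intro x hx
      refine ⟨k + j, ?_⟩
      rw [Subgroup.mem_centralizer_iff]
      intro y hy
      apply Subtype.ext
      have := Subgroup.mem_centralizer_iff.mp (hCpow x x.2 (Subgroup.mem_subgroupOf.mp hx))
        (y : G) (Subgroup.mem_subgroupOf.mp hy)
      simpa using this)
    (X.subgroupOf Γ) (fun x hx => hXN hx)
    (by
      intro x hxN hxC
      rw [Subgroup.mem_subgroupOf, hX]
      refine ⟨hCL ?_, Subgroup.mem_subgroupOf.mp hxN⟩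
      rw [Subgroup.mem_centralizer_iff]
      intro y hy
      have := Subgroup.mem_centralizer_iff.mp hxC ⟨y, hPΓ hy⟩ (Subgroup.mem_subgroupOf.mpr hy)
      exact congrArg Subtype.val this)
    (pullSet hXΓ β) (isPBlock_pullSet hMp hXΓ hβ)
    (by
      have h : Cfsg.blockDefect p (pullSet hXΓ β) = Cfsg.blockDefect p β :=
        Cfsg.Agent.Lib.Helper32.blockDefect_mapSet _ p β
      rw [h, ← hβcard]
      exact Nat.card_congr (Subgroup.subgroupOfEquivOfLe hPΓ).toEquiv)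
    (fun x hx => stabilizesBlock_pullSet hXΓ (hstΓ x x.2 (Subgroup.mem_subgroupOf.mp hx)))
    (by
      refine ⟨Φ₀, mem_blockOf_self hMp Φ₀, mapIrr (Subgroup.subgroupOfEquivOfLe hXΓ).symm ξ,
        ⟨ξ, hξ, rfl⟩, ?_⟩
      have hΨ : Cfsg.IsCharacter (L.subgroupOf Γ) (fun n : L.subgroupOf Γ => (Φ₀ : Γ → ℂ) n) :=
        Cfsg.Agent.Lib.Helper80.isCharacter_comp (L.subgroupOf Γ).subtype
          (Cfsg.Agent.Lib.Helper3.isCharacter_of_irr Φ₀.2)
      have h2 : Cfsg.classInner (fun a : X.subgroupOf Γ =>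
          (mapIrr (Subgroup.subgroupOfEquivOfLe hLΓ).symm φ : L.subgroupOf Γ → ℂ)
            (Subgroup.inclusion hXLΓ a))
          (mapIrr (Subgroup.subgroupOfEquivOfLe hXΓ).symm ξ : X.subgroupOf Γ → ℂ) ≠ 0 := by
        have e1 := Cfsg.Agent.Lib.Helper3.KnorrTr.classInner_comp_equiv
          (Subgroup.subgroupOfEquivOfLe hXΓ) (fun x : X => (φ : L → ℂ) ⟨x, hXL x.2⟩) (ξ : X → ℂ)
        have e2 : (fun a : X.subgroupOf Γ =>
            (mapIrr (Subgroup.subgroupOfEquivOfLe hLΓ).symm φ : L.subgroupOf Γ → ℂ)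
              (Subgroup.inclusion hXLΓ a)) =
            fun a : X.subgroupOf Γ => (fun x : X => (φ : L → ℂ) ⟨x, hXL x.2⟩)
              (Subgroup.subgroupOfEquivOfLe hXΓ a) := by
          funext a
          rw [mapIrr_apply]
          rfl
        have e3 : (mapIrr (Subgroup.subgroupOfEquivOfLe hXΓ).symm ξ : X.subgroupOf Γ → ℂ) =
            fun a : X.subgroupOf Γ => (ξ : X → ℂ) (Subgroup.subgroupOfEquivOfLe hXΓ a) := by
          funext a
          rw [mapIrr_apply]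
          rfl
        rw [e2, e3, e1]
        exact hφξ
      exact Cfsg.Agent.Lib.Helper3.KnorrZ.over_trans (Subgroup.inclusion hXLΓ) hΨ _ _ hΦ₀ h2)
  -- conclusion
  haveI hYn' : ((X.subgroupOf Γ).subgroupOf (N.subgroupOf Γ)).Normal :=
    hXn.subgroupOf (N.subgroupOf Γ)
  have hw : (⟨⟨u, huΓ⟩, Subgroup.mem_subgroupOf.mpr huN⟩ : N.subgroupOf Γ) ^ (p ^ k) = 1 := by
    apply Subtype.ext
    apply Subtype.ext
    simpa using huk
  have hmem := Cfsg.Agent.Lib.Helper3.KnorrGrp.mem_of_pow_eq_one_of_not_dvd_index p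
    ((X.subgroupOf Γ).subgroupOf (N.subgroupOf Γ)) hE2 hw
  exact Subgroup.mem_subgroupOf.mp (Subgroup.mem_subgroupOf.mp hmem)

/-- the main argument, with `L = P C_G(P)` abstracted -/
theorem knorr_core_aux (hM : Cfsg.IsPModular p M) (N : Subgroup G) [hN : N.Normal] [Fintype N]
    (b : Set (Cfsg.IrrCharacter N)) (hb : Cfsg.IsPBlock M b)
    (hinv : ∀ g : G, ∀ θ ∈ b, ∀ θ' : Cfsg.IrrCharacter N,
      (∀ n : N, (θ' : N → ℂ) n = (θ : N → ℂ) ⟨g * n * g⁻¹, hN.conj_mem n n.2 g⟩) → θ' ∈ b)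
    (B : Set (Cfsg.IrrCharacter G)) (hB : Cfsg.IsPBlock M B)
    (hcov : ∃ χ ∈ B, ∃ θ ∈ b,
      Cfsg.classInner (fun n : N => (χ : G → ℂ) n) (θ : N → ℂ) ≠ 0)
    (P : Subgroup G) (hP : Cfsg.IsDefectGroup p M B P) (hPN : P ≤ N)
    (L : Subgroup G) (hL : L = P ⊔ Subgroup.centralizer (P : Set G))
    (bP : Set (Cfsg.IrrCharacter L)) (hbPD : Cfsg.IsDefectGroup p M bP (P.subgroupOf L))
    (hbPind : Cfsg.IsInducedBlock M L bP B) :
    Cfsg.IsDefectGroup p M b (P.subgroupOf N) := by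
  classical
  have hp : p.Prime := Fact.out
  have hMp := isPrime_of_isPModular hM
  have hPp : IsPGroup p P := isPGroup_of_isDefectGroup hP
  have hPL : P ≤ L := by rw [hL]; exact le_sup_left
  have hCL : Subgroup.centralizer (P : Set G) ≤ L := by rw [hL]; exact le_sup_right
  have hLN : L ≤ Subgroup.normalizer (P : Set G) := by
    rw [hL]
    exact sup_le Subgroup.le_normalizer (Subgroup.centralizer_le_normalizer _)
  obtain ⟨X, hX⟩ : ∃ X : Subgroup G, X = L ⊓ N := ⟨_, rfl⟩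
  have hXL : X ≤ L := by rw [hX]; exact inf_le_left
  have hXN : X ≤ N := by rw [hX]; exact inf_le_right
  have hPX : P ≤ X := by rw [hX]; exact le_inf hPL hPN
  haveI : Fintype L := Fintype.ofFinite _
  haveI : Fintype X := Fintype.ofFinite _
  haveI : Fintype (X.subgroupOf L) := Fintype.ofFinite _
  haveI : Fintype (X.subgroupOf N) := Fintype.ofFinite _
  haveI hXLn : (X.subgroupOf L).Normal := by
    rw [hX, Subgroup.inf_subgroupOf_left]
    exact hN.subgroupOf L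
  haveI hPLn : (P.subgroupOf L).Normal := (Subgroup.normal_subgroupOf_iff_le_normalizer hPL).mpr hLN
  have hbP : Cfsg.IsPBlock M bP := hbPind.1
  -- (b) a block of `X` covered by `bP`
  obtain ⟨φ, hφ⟩ := IsPBlock.nonempty hMp hbP
  obtain ⟨ξc, hξc⟩ := exists_irr_under (X.subgroupOf L) φ
  have hc : Cfsg.IsPBlock M (Cfsg.blockOf M (ξc : X.subgroupOf L → ℂ)) := ⟨ξc, rfl⟩
  obtain ⟨j, hj⟩ := IsPGroup.iff_card.mp hPp
  have hCz : ∀ x ∈ X.subgroupOf L, ∃ k : ℕ,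
      x ^ (p ^ k) ∈ Subgroup.centralizer ((P.subgroupOf L : Subgroup L) : Set L) := by
    intro x hx
    refine ⟨j, ?_⟩
    have h1 := Cfsg.Agent.Lib.Helper3.KnorrGrp.pow_card_mem_centralizer P (x := (x : G))
      (by rw [← hL]; exact x.2)
    rw [hj] at h1
    rw [Subgroup.mem_centralizer_iff]
    intro y hy
    apply Subtype.ext
    have := Subgroup.mem_centralizer_iff.mp h1 (y : G) (Subgroup.mem_subgroupOf.mp hy)
    simpa using this
  have hcD := Cfsg.Agent.Lib.Helper3.KnorrZ.claimZ hM (P.subgroupOf L) hPp.comap_subtype bP hbP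
    hbPD (X.subgroupOf L) (fun x hx => hPX hx) hCz _ hc
    ⟨φ, hφ, ξc, mem_blockOf_self hMp ξc, hξc⟩
  -- the block `β` of `X`
  obtain ⟨β, hβdef⟩ : ∃ β : Set (Cfsg.IrrCharacter X),
      β = mapSet (Subgroup.subgroupOfEquivOfLe hXL) (Cfsg.blockOf M (ξc : X.subgroupOf L → ℂ)) :=
    ⟨_, rfl⟩
  have hβ : Cfsg.IsPBlock M β := by
    rw [hβdef]; exact isPBlock_mapSet hMp _ hc
  have hβD : Cfsg.IsDefectGroup p M β (P.subgroupOf X) := by
    have h1 := isDefectGroup_mapSet (Subgroup.subgroupOfEquivOfLe hXL) hcD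
    rw [← hβdef] at h1
    have e : ((P.subgroupOf L).subgroupOf (X.subgroupOf L)).map
        (Subgroup.subgroupOfEquivOfLe hXL).toMonoidHom = P.subgroupOf X := by
      ext x
      constructor
      · rintro ⟨y, hy, rfl⟩
        exact hy
      · intro hx
        exact ⟨(Subgroup.subgroupOfEquivOfLe hXL).symm x, hx, by simp⟩
    rw [e] at h1
    exact h1
  have hβcard : Nat.card P = p ^ Cfsg.blockDefect p β := by
    rw [← Cfsg.Agent.Lib.Helper77.card_isDefectGroup hM β hβ _ hβD]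
    exact (Nat.card_congr (Subgroup.subgroupOfEquivOfLe hPX).toEquiv).symm
  obtain ⟨ξ, hξdef⟩ : ∃ ξ : Cfsg.IrrCharacter X,
      ξ = mapIrr (Subgroup.subgroupOfEquivOfLe hXL) ξc := ⟨_, rfl⟩
  have hξ : ξ ∈ β := by
    rw [hβdef, hξdef]; exact ⟨ξc, mem_blockOf_self hMp ξc, rfl⟩
  have hφξ : Cfsg.classInner (fun x : X => (φ : L → ℂ) ⟨x, hXL x.2⟩) (ξ : X → ℂ) ≠ 0 := by
    have e1 := Cfsg.Agent.Lib.Helper3.KnorrTr.classInner_comp_equiv
      (Subgroup.subgroupOfEquivOfLe hXL) (fun x : X => (φ : L → ℂ) ⟨x, hXL x.2⟩) (ξ : X → ℂ)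
    rw [← e1]
    have e3 : (fun a : X.subgroupOf L => (ξ : X → ℂ) (Subgroup.subgroupOfEquivOfLe hXL a)) =
        (ξc : X.subgroupOf L → ℂ) := by
      funext a
      rw [hξdef, mapIrr_apply]
      simp
    rw [e3]
    exact hξc
  have hcovβ : ∃ φ ∈ bP, ∃ ξ ∈ β,
      Cfsg.classInner (fun x : X => (φ : L → ℂ) ⟨x, hXL x.2⟩) (ξ : X → ℂ) ≠ 0 :=
    ⟨φ, hφ, ξ, hξ, hφξ⟩
  -- (c) `β` induces `b`
  have hPNp : IsPGroup p (P.subgroupOf N) := hPp.comap_subtype
  have hKeq : X.subgroupOf N = P.subgroupOf N ⊔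
      Subgroup.centralizer ((P.subgroupOf N : Subgroup N) : Set N) := by
    apply le_antisymm
    · intro n hn
      have hnL : (n : G) ∈ P ⊔ Subgroup.centralizer (P : Set G) := by
        rw [← hL]; exact hXL (Subgroup.mem_subgroupOf.mp hn)
      obtain ⟨a, ha, c, hc', hac⟩ := Cfsg.Agent.Lib.Helper3.KnorrGrp.mem_sup_centralizer P hnL
      have hcN : c ∈ N := by
        have e : c = a⁻¹ * (n : G) := by rw [hac]; group
        rw [e]
        exact N.mul_mem (N.inv_mem (hPN ha)) n.2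
      have e : n = (⟨a, hPN ha⟩ : N) * ⟨c, hcN⟩ := Subtype.ext hac
      rw [e]
      apply Subgroup.mul_mem_sup
      · exact Subgroup.mem_subgroupOf.mpr ha
      · rw [Subgroup.mem_centralizer_iff]
        intro y hy
        apply Subtype.ext
        exact Subgroup.mem_centralizer_iff.mp hc' (y : G) (Subgroup.mem_subgroupOf.mp hy)
    · apply sup_le
      · intro n hn
        exact Subgroup.mem_subgroupOf.mpr (hPX (Subgroup.mem_subgroupOf.mp hn))
      · intro n hn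
        rw [Subgroup.mem_subgroupOf, hX]
        refine ⟨hCL ?_, n.2⟩
        rw [Subgroup.mem_centralizer_iff]
        intro y hy
        have := Subgroup.mem_centralizer_iff.mp hn ⟨y, hPN hy⟩ (Subgroup.mem_subgroupOf.mpr hy)
        exact congrArg Subtype.val this
  have hβ' : Cfsg.IsPBlock M (pullSet hXN β) := isPBlock_pullSet hMp hXN hβ
  obtain ⟨b'', hb''⟩ := Cfsg.Agent.S0919.result p M hM (P.subgroupOf N) (X.subgroupOf N) hPNp
    (by rw [hKeq]; exact le_sup_left) (by rw [hKeq]; exact le_sup_right)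
    (by
      rw [hKeq]
      exact sup_le Subgroup.le_normalizer (Subgroup.centralizer_le_normalizer _))
    (pullSet hXN β) hβ'
  have hD := cover_of_induced hM N L X hX hXL hXN bP B hbPind β hcovβ b'' hb''
  obtain ⟨χ', hχ', ψ, hψ, hne'⟩ := (Cfsg.Agent.S0965.result p M hM N B hB b'' hb''.2.1).mpr hD
  obtain ⟨χ₁, hχ₁, θ₁, hθ₁, hcon₁⟩ := hcov
  obtain ⟨g, θ', hθ'b, hθ'⟩ := Cfsg.Agent.S0964.result p M hM N B hB b hb χ₁ hχ₁ θ₁ hθ₁ hcon₁
    χ' hχ' ψ hne'
  have hψb : ψ ∈ b := hinv g θ' hθ'b ψ hθ'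
  have hbb : b'' = b := by
    rw [IsPBlock.eq_blockOf hMp hb''.2.1 hψ, IsPBlock.eq_blockOf hMp hb hψb]
  rw [hbb] at hb''
  -- (d) the stabilizer
  have hNPK : Subgroup.normalizer ((P.subgroupOf N : Subgroup N) : Set N) ≤
      Subgroup.normalizer ((X.subgroupOf N : Subgroup N) : Set N) := by
    rw [hKeq]
    exact Cfsg.Agent.Lib.Helper78.efm_normalizer_le (P.subgroupOf N)
  obtain ⟨T, hTdef⟩ : ∃ T : Subgroup N,
      T = Subgroup.normalizer ((P.subgroupOf N : Subgroup N) : Set N) ⊓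
        Cfsg.Agent.Lib.Helper3.KnorrTr.stabSub hMp (X.subgroupOf N) (pullSet hXN β) hβ' :=
    ⟨_, rfl⟩
  have hT : ∀ g : N, g ∈ T ↔ (g ∈ Subgroup.normalizer ((P.subgroupOf N : Subgroup N) : Set N) ∧
      ∀ θ ∈ pullSet hXN β, ∀ θ' : Cfsg.IrrCharacter (X.subgroupOf N),
        (∀ h h' : X.subgroupOf N, (h' : N) = g * h * g⁻¹ →
          (θ' : X.subgroupOf N → ℂ) h' = (θ : X.subgroupOf N → ℂ) h) → θ' ∈ pullSet hXN β) := by
    intro g
    rw [hTdef, Subgroup.mem_inf, Cfsg.Agent.Lib.Helper3.KnorrTr.mem_stabSub]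
    constructor
    · rintro ⟨h1, h2⟩
      exact ⟨h1, (Cfsg.Agent.Lib.Helper3.KnorrTr.stabilizesBlock_iff_forall _ _ g
        (hNPK h1)).mp h2⟩
    · rintro ⟨h1, h2⟩
      exact ⟨h1, (Cfsg.Agent.Lib.Helper3.KnorrTr.stabilizesBlock_iff_forall _ _ g
        (hNPK h1)).mpr h2⟩
  have hβ'D : Cfsg.IsDefectGroup p M (pullSet hXN β)
      ((P.subgroupOf N).subgroupOf (X.subgroupOf N)) := by
    have h1 := isDefectGroup_pullSet hXN hβD
    have e : (P.subgroupOf X).map (Subgroup.subgroupOfEquivOfLe hXN).symm.toMonoidHom =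
        (P.subgroupOf N).subgroupOf (X.subgroupOf N) := by
      ext y
      constructor
      · rintro ⟨x, hx, rfl⟩
        exact hx
      · intro hy
        exact ⟨Subgroup.subgroupOfEquivOfLe hXN y, hy, by simp⟩
    rw [e] at h1
    exact h1
  have h4437 := Cfsg.Agent.S4437.result p M hM (P.subgroupOf N) hPNp (X.subgroupOf N) hKeq
    (pullSet hXN β) hβ' hβ'D b hb'' T hT
  apply h4437.mpr
  apply Cfsg.Agent.Lib.Helper3.KnorrGrp.not_dvd_relIndex_of_pElements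
  rintro t ht ⟨k, hk⟩
  rw [hTdef] at ht
  obtain ⟨ht1, ht2⟩ := Subgroup.mem_inf.mp ht
  rw [Subgroup.mem_subgroupOf]
  apply mem_of_stabilizes hM N B hB P hP hPN L hL bP hbPind X hX hXL β hβ hβcard hcovβ (t : G)
    t.2 ?_ ?_ k ?_
  · rw [Subgroup.mem_normalizer_iff]
    intro y
    constructor
    · intro hy
      have := (Subgroup.mem_normalizer_iff.mp ht1 ⟨y, hPN hy⟩).mp (Subgroup.mem_subgroupOf.mpr hy)
      exact Subgroup.mem_subgroupOf.mp this
    · intro hy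
      have hyN : y ∈ N := by
        have h1 := hN.conj_mem _ (hPN hy) (t : G)⁻¹
        simpa [mul_assoc] using h1
      have := (Subgroup.mem_normalizer_iff.mp ht1 ⟨y, hyN⟩).mpr (Subgroup.mem_subgroupOf.mpr hy)
      exact Subgroup.mem_subgroupOf.mp this
  · exact Cfsg.Agent.Lib.Helper3.KnorrTr.stabilizesBlock_of_pullSet hXN ht2
  · have := congrArg Subtype.val hk
    simpa using this

/-- **The core of Knörr's theorem.**  If `b` is a `G`-invariant block of the normal subgroup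
`N`, `B` a block of `G` covering `b`, and a defect group `P` of `B` lies in `N`, then `P` is a
defect group of `b`. -/
theorem knorr_core' (p : ℕ) [Fact p.Prime] (M : Ideal Cfsg.AlgInt) (hM : Cfsg.IsPModular p M)
    (N : Subgroup G) [hN : N.Normal] [Fintype N]
    (b : Set (Cfsg.IrrCharacter N)) (hb : Cfsg.IsPBlock M b)
    (hinv : ∀ g : G, ∀ θ ∈ b, ∀ θ' : Cfsg.IrrCharacter N,
      (∀ n : N, (θ' : N → ℂ) n = (θ : N → ℂ) ⟨g * n * g⁻¹, hN.conj_mem n n.2 g⟩) → θ' ∈ b)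
    (B : Set (Cfsg.IrrCharacter G)) (hB : Cfsg.IsPBlock M B)
    (hcov : ∃ χ ∈ B, ∃ θ ∈ b,
      Cfsg.classInner (fun n : N => (χ : G → ℂ) n) (θ : N → ℂ) ≠ 0)
    (P : Subgroup G) (hP : Cfsg.IsDefectGroup p M B P) (hPN : P ≤ N) :
    Cfsg.IsDefectGroup p M b (P.subgroupOf N) := by
  obtain ⟨⟨bP, hbPD, hbPind⟩, -⟩ := Cfsg.Agent.S0973.result p M hM B hB P hP
  exact knorr_core_aux hM N b hb hinv B hB hcov P hP hPN _ rfl bP hbPD hbPind

/-- the same with the (superfluous) hypothesis `G = N C_G(P)` -/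
theorem knorr_core (p : ℕ) [Fact p.Prime] (M : Ideal Cfsg.AlgInt) (hM : Cfsg.IsPModular p M)
    (N : Subgroup G) [hN : N.Normal] [Fintype N]
    (b : Set (Cfsg.IrrCharacter N)) (hb : Cfsg.IsPBlock M b)
    (hinv : ∀ g : G, ∀ θ ∈ b, ∀ θ' : Cfsg.IrrCharacter N,
      (∀ n : N, (θ' : N → ℂ) n = (θ : N → ℂ) ⟨g * n * g⁻¹, hN.conj_mem n n.2 g⟩) → θ' ∈ b)
    (B : Set (Cfsg.IrrCharacter G)) (hB : Cfsg.IsPBlock M B)
    (hcov : ∃ χ ∈ B, ∃ θ ∈ b,
      Cfsg.classInner (fun n : N => (χ : G → ℂ) n) (θ : N → ℂ) ≠ 0)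
    (P : Subgroup G) (hP : Cfsg.IsDefectGroup p M B P) (hPN : P ≤ N)
    (hG : N ⊔ Subgroup.centralizer (P : Set G) = ⊤) :
    Cfsg.IsDefectGroup p M b (P.subgroupOf N) :=
  knorr_core' p M hM N b hb hinv B hB hcov P hP hPN

end Main

end Cfsg.Agent.Lib.Helper3.KnorrCore
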