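import Mathlib
import Cfsg.Prelude.Def_CaseTheorems
import Cfsg.Agent.Lib.Helper22.Quasi
import Cfsg.Agent.Lib.Helper34.CoreAux

/-!
The centralizer of the reflection `diag(-1, 1, ..., 1)` in `GL (m+1) F` (odd characteristic)
modulo its odd core has a component as soon as `SL m F` is quasisimple (helper3).
-/

set_option autoImplicit false

namespace Cfsg.Agent.Lib.Helper3.GLComp

variable {F : Type*} [Field F] {m : ℕ}

/-- Block diagonal with respect to the splitting `{0} ∪ {1, ..., m}`. -/
def IsBD (A : Matrix (Fin (m + 1)) (Fin (m + 1)) F) : Prop :=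
  (∀ j : Fin m, A 0 j.succ = 0) ∧ (∀ i : Fin m, A i.succ 0 = 0)

/-- The lower right `m × m` corner. -/
def corner (A : Matrix (Fin (m + 1)) (Fin (m + 1)) F) : Matrix (Fin m) (Fin m) F :=
  A.submatrix Fin.succ Fin.succ

omit [Field F] in
theorem corner_apply (A : Matrix (Fin (m + 1)) (Fin (m + 1)) F) (i j : Fin m) :
    corner A i j = A i.succ j.succ := rfl

theorem isBD_mul {A B : Matrix (Fin (m + 1)) (Fin (m + 1)) F} (hA : IsBD A) (hB : IsBD B) :
    IsBD (A * B) := by
  refine ⟨fun j => ?_, fun i => ?_⟩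
  · rw [Matrix.mul_apply, Fin.sum_univ_succ, hB.1 j, mul_zero, zero_add]
    apply Finset.sum_eq_zero
    intro k _
    rw [hA.1 k, zero_mul]
  · rw [Matrix.mul_apply, Fin.sum_univ_succ, hA.2 i, zero_mul, zero_add]
    apply Finset.sum_eq_zero
    intro k _
    rw [hB.2 k, mul_zero]

theorem corner_mul {A B : Matrix (Fin (m + 1)) (Fin (m + 1)) F} (hA : IsBD A) :
    corner (A * B) = corner A * corner B := by
  ext i j
  rw [corner_apply, Matrix.mul_apply, Matrix.mul_apply, Fin.sum_univ_succ, hA.2 i, zero_mul,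
    zero_add]
  rfl

theorem mul_zero_zero {A B : Matrix (Fin (m + 1)) (Fin (m + 1)) F} (hA : IsBD A) :
    (A * B) 0 0 = A 0 0 * B 0 0 := by
  rw [Matrix.mul_apply, Fin.sum_univ_succ, Finset.sum_eq_zero, add_zero]
  intro k _
  rw [hA.1 k, zero_mul]

theorem isBD_one : IsBD (1 : Matrix (Fin (m + 1)) (Fin (m + 1)) F) := by
  refine ⟨fun j => ?_, fun i => ?_⟩
  · exact Matrix.one_apply_ne (Fin.succ_ne_zero j).symm
  · exact Matrix.one_apply_ne (Fin.succ_ne_zero i)

theorem corner_one : corner (1 : Matrix (Fin (m + 1)) (Fin (m + 1)) F) = 1 := by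
  ext i j
  rw [corner_apply, Matrix.one_apply, Matrix.one_apply]
  simp

/-- The embedding `S ↦ diag(1, S)`. -/
def emb (S : Matrix (Fin m) (Fin m) F) : Matrix (Fin (m + 1)) (Fin (m + 1)) F :=
  Matrix.of (Fin.cons (Fin.cons 1 (fun _ => 0)) (fun i => Fin.cons 0 (S i)))

theorem emb_zero_zero (S : Matrix (Fin m) (Fin m) F) : emb S 0 0 = 1 := by
  simp [emb]

theorem emb_zero_succ (S : Matrix (Fin m) (Fin m) F) (j : Fin m) : emb S 0 j.succ = 0 := by
  simp [emb]

theorem emb_succ_zero (S : Matrix (Fin m) (Fin m) F) (i : Fin m) : emb S i.succ 0 = 0 := by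
  simp [emb]

theorem emb_succ_succ (S : Matrix (Fin m) (Fin m) F) (i j : Fin m) :
    emb S i.succ j.succ = S i j := by
  simp [emb]

theorem isBD_emb (S : Matrix (Fin m) (Fin m) F) : IsBD (emb S) :=
  ⟨emb_zero_succ S, emb_succ_zero S⟩

theorem corner_emb (S : Matrix (Fin m) (Fin m) F) : corner (emb S) = S := by
  ext i j
  rw [corner_apply, emb_succ_succ]

theorem eq_emb_of_isBD {A : Matrix (Fin (m + 1)) (Fin (m + 1)) F} (hA : IsBD A)
    (h0 : A 0 0 = 1) : A = emb (corner A) := by
  ext i j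
  refine Fin.cases ?_ (fun i' => ?_) i <;> refine Fin.cases ?_ (fun j' => ?_) j
  · rw [emb_zero_zero, h0]
  · rw [emb_zero_succ, hA.1]
  · rw [emb_succ_zero, hA.2]
  · rw [emb_succ_succ, corner_apply]

theorem emb_one : emb (1 : Matrix (Fin m) (Fin m) F) = 1 := by
  have h := eq_emb_of_isBD (isBD_one (F := F) (m := m)) (Matrix.one_apply_eq 0)
  rw [corner_one] at h
  exact h.symm

theorem emb_mul (S T : Matrix (Fin m) (Fin m) F) : emb (S * T) = emb S * emb T := by
  have h := eq_emb_of_isBD (isBD_mul (isBD_emb S) (isBD_emb T))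
    (by rw [mul_zero_zero (isBD_emb S), emb_zero_zero, emb_zero_zero, mul_one])
  rw [corner_mul (isBD_emb S), corner_emb, corner_emb] at h
  exact h.symm

/-- `emb` as a monoid homomorphism. -/
def embHom : Matrix (Fin m) (Fin m) F →* Matrix (Fin (m + 1)) (Fin (m + 1)) F where
  toFun := emb
  map_one' := emb_one
  map_mul' := emb_mul

/-- The embedding of `SL m F` into `GL (m+1) F`. -/
def phi : Matrix.SpecialLinearGroup (Fin m) F →* Matrix.GeneralLinearGroup (Fin (m + 1)) F :=
  (Units.map embHom).comp Matrix.SpecialLinearGroup.toGL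

theorem phi_val (S : Matrix.SpecialLinearGroup (Fin m) F) :
    ((phi S : Matrix.GeneralLinearGroup (Fin (m + 1)) F) : Matrix (Fin (m + 1)) (Fin (m + 1)) F)
      = emb (S : Matrix (Fin m) (Fin m) F) := rfl

theorem phi_injective : Function.Injective (phi (F := F) (m := m)) := by
  intro S T h
  have h1 := congrArg (fun g : Matrix.GeneralLinearGroup (Fin (m + 1)) F =>
    corner (g : Matrix (Fin (m + 1)) (Fin (m + 1)) F)) h
  simp only [phi_val, corner_emb] at h1
  exact Subtype.ext h1

/-- The diagonal of the reflection. -/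
def dvec : Fin (m + 1) → F := Fin.cons (-1) (fun _ => 1)

/-- The reflection matrix `diag(-1, 1, ..., 1)`. -/
def tmat : Matrix (Fin (m + 1)) (Fin (m + 1)) F := Matrix.diagonal dvec

theorem tmat_mul_self : (tmat : Matrix (Fin (m + 1)) (Fin (m + 1)) F) * tmat = 1 := by
  rw [tmat, Matrix.diagonal_mul_diagonal, ← Matrix.diagonal_one]
  congr 1
  funext i
  refine Fin.cases ?_ (fun i' => ?_) i <;> simp [dvec]

/-- The reflection as an element of `GL (m+1) F`. -/
def tEl : Matrix.GeneralLinearGroup (Fin (m + 1)) F :=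
  ⟨tmat, tmat, tmat_mul_self, tmat_mul_self⟩

theorem isBD_of_comm (h2 : (2 : F) ≠ 0) {A : Matrix (Fin (m + 1)) (Fin (m + 1)) F}
    (h : A * tmat = tmat * A) : IsBD A := by
  refine ⟨fun j => ?_, fun i => ?_⟩
  · have h1 := congrFun (congrFun h 0) j.succ
    rw [tmat, Matrix.mul_diagonal, Matrix.diagonal_mul] at h1
    simp only [dvec, Fin.cons_succ, Fin.cons_zero, mul_one, neg_mul, one_mul] at h1
    have h3 : (2 : F) * A 0 j.succ = 0 := by linear_combination h1
    exact (mul_eq_zero.mp h3).resolve_left h2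
  · have h1 := congrFun (congrFun h i.succ) 0
    rw [tmat, Matrix.mul_diagonal, Matrix.diagonal_mul] at h1
    simp only [dvec, Fin.cons_succ, Fin.cons_zero, mul_neg, mul_one, one_mul] at h1
    have h3 : (2 : F) * A i.succ 0 = 0 := by linear_combination -h1
    exact (mul_eq_zero.mp h3).resolve_left h2

theorem comm_of_isBD {A : Matrix (Fin (m + 1)) (Fin (m + 1)) F} (h : IsBD A) :
    A * tmat = tmat * A := by
  ext i j
  rw [tmat, Matrix.mul_diagonal, Matrix.diagonal_mul]
  refine Fin.cases ?_ (fun i' => ?_) i <;> refine Fin.cases ?_ (fun j' => ?_) j <;>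
    simp [dvec, h.1, h.2]

theorem mem_centralizer_iff (h2 : (2 : F) ≠ 0) (g : Matrix.GeneralLinearGroup (Fin (m + 1)) F) :
    g ∈ Subgroup.centralizer ({tEl} : Set (Matrix.GeneralLinearGroup (Fin (m + 1)) F)) ↔
      IsBD (g : Matrix (Fin (m + 1)) (Fin (m + 1)) F) := by
  rw [Subgroup.mem_centralizer_singleton_iff]
  constructor
  · intro h
    exact isBD_of_comm h2 (congrArg Units.val h)
  · intro h
    exact Units.ext (comm_of_isBD h)

/-- An involution of `SL m F` for `m ≥ 2`: `diag(-1, -1, 1, ..., 1)`. -/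
theorem exists_involution (h2 : (2 : F) ≠ 0) (hm : 2 ≤ m) :
    ∃ S : Matrix.SpecialLinearGroup (Fin m) F, orderOf S = 2 := by
  obtain ⟨k, rfl⟩ : ∃ k, m = k + 2 := ⟨m - 2, by omega⟩
  let e : Fin (k + 2) → F := fun i => if (i : ℕ) < 2 then -1 else 1
  have hdet : (Matrix.diagonal e).det = 1 := by
    rw [Matrix.det_diagonal, Fin.prod_univ_succ, Fin.prod_univ_succ]
    simp [e]
  have he : ∀ i, e i * e i = 1 := by
    intro i
    show (if (i : ℕ) < 2 then (-1 : F) else 1) * (if (i : ℕ) < 2 then (-1 : F) else 1) = 1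
    split_ifs <;> ring
  have hsq : Matrix.diagonal e * Matrix.diagonal e = 1 := by
    rw [Matrix.diagonal_mul_diagonal, ← Matrix.diagonal_one]
    congr 1
    funext i
    exact he i
  let S0 : Matrix.SpecialLinearGroup (Fin (k + 2)) F := ⟨Matrix.diagonal e, hdet⟩
  refine ⟨S0, ?_⟩
  have : Fact (Nat.Prime 2) := ⟨Nat.prime_two⟩
  apply orderOf_eq_prime
  · rw [pow_two]
    exact Subtype.ext hsq
  · intro h
    have h1 := congrFun (congrFun (congrArg Subtype.val h) 0) 0
    have h3 : (Matrix.diagonal e) 0 0 = (-1 : F) := by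
      rw [Matrix.diagonal_apply_eq]
      show (if ((0 : Fin (k + 2)) : ℕ) < 2 then (-1 : F) else 1) = -1
      simp
    have h4 : (S0 : Matrix (Fin (k + 2)) (Fin (k + 2)) F) 0 0 = -1 := h3
    have h5 : ((1 : Matrix.SpecialLinearGroup (Fin (k + 2)) F) :
        Matrix (Fin (k + 2)) (Fin (k + 2)) F) 0 0 = 1 := by
      rw [Matrix.SpecialLinearGroup.coe_one, Matrix.one_apply_eq]
    have h6 : (-1 : F) = 1 := h4.symm.trans (h1.trans h5)
    apply h2
    linear_combination -h6

open Cfsg in
theorem main [Fintype F] [DecidableEq F] (h2 : (2 : F) ≠ 0) (hm : 2 ≤ m)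
    (hq : IsQuasisimple (Matrix.SpecialLinearGroup (Fin m) F)) :
    ∃ t : Matrix.GeneralLinearGroup (Fin (m + 1)) F, orderOf t = 2 ∧
      t ∉ Subgroup.center (Matrix.GeneralLinearGroup (Fin (m + 1)) F) ∧
      HasComponent (↥(Subgroup.centralizer ({t} : Set (Matrix.GeneralLinearGroup (Fin (m + 1)) F)))
        ⧸ oddCore ↥(Subgroup.centralizer
          ({t} : Set (Matrix.GeneralLinearGroup (Fin (m + 1)) F)))) := by
  classical
  have hp2 : Fact (Nat.Prime 2) := ⟨Nat.prime_two⟩
  refine ⟨tEl, ?_, ?_, ?_⟩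
  · apply orderOf_eq_prime
    · rw [pow_two]
      exact Units.ext tmat_mul_self
    · intro h
      have h0 : (tmat : Matrix (Fin (m + 1)) (Fin (m + 1)) F) = 1 :=
        congrArg (fun g : Matrix.GeneralLinearGroup (Fin (m + 1)) F =>
          (g : Matrix (Fin (m + 1)) (Fin (m + 1)) F)) h
      have h3 : (tmat : Matrix (Fin (m + 1)) (Fin (m + 1)) F) 0 0 = -1 := by
        simp [tmat, dvec]
      rw [h0, Matrix.one_apply_eq] at h3
      apply h2
      linear_combination h3
  · intro hc
    rw [Matrix.GeneralLinearGroup.mem_center_iff_val_mem_range_scalar] at hc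
    obtain ⟨a, ha⟩ := hc
    have ha' : Matrix.diagonal (fun _ : Fin (m + 1) => a) = Matrix.diagonal dvec := ha
    have h5 := Matrix.diagonal_injective ha'
    have h6 := congrFun h5 0
    have h7 := congrFun h5 (Fin.succ ⟨0, by omega⟩)
    simp only [dvec, Fin.cons_zero, Fin.cons_succ] at h6 h7
    apply h2
    rw [h6] at h7
    linear_combination -h7
  · set C := Subgroup.centralizer ({tEl} : Set (Matrix.GeneralLinearGroup (Fin (m + 1)) F))
      with hC
    have hK0C : (phi (F := F) (m := m)).range ≤ C := by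
      rintro _ ⟨S, rfl⟩
      rw [hC, mem_centralizer_iff h2, phi_val]
      exact isBD_emb _
    set Kc : Subgroup C := (phi (F := F) (m := m)).range.subgroupOf C with hKc
    have hKcN : Kc.Normal := by
      refine ⟨fun k hk g => ?_⟩
      rw [hKc, Subgroup.mem_subgroupOf] at hk ⊢
      obtain ⟨S, hS⟩ := hk
      have hg : IsBD ((g : Matrix.GeneralLinearGroup (Fin (m + 1)) F) :
          Matrix (Fin (m + 1)) (Fin (m + 1)) F) := (mem_centralizer_iff h2 _).mp g.2
      have hg' : IsBD (((g⁻¹ : C) : Matrix.GeneralLinearGroup (Fin (m + 1)) F) :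
          Matrix (Fin (m + 1)) (Fin (m + 1)) F) := (mem_centralizer_iff h2 _).mp (g⁻¹).2
      set A : Matrix (Fin (m + 1)) (Fin (m + 1)) F :=
        ((g : Matrix.GeneralLinearGroup (Fin (m + 1)) F) :
          Matrix (Fin (m + 1)) (Fin (m + 1)) F) with hA
      set A' : Matrix (Fin (m + 1)) (Fin (m + 1)) F :=
        (((g⁻¹ : C) : Matrix.GeneralLinearGroup (Fin (m + 1)) F) :
          Matrix (Fin (m + 1)) (Fin (m + 1)) F) with hA'
      have hAA' : A * A' = 1 := by
        rw [hA, hA', ← Units.val_mul, ← Subgroup.coe_mul, mul_inv_cancel]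
        rfl
      have hcc : corner A * corner A' = 1 := by
        rw [← corner_mul hg, hAA', corner_one]
      have h00 : A 0 0 * A' 0 0 = 1 := by
        rw [← mul_zero_zero hg, hAA', Matrix.one_apply_eq]
      have hdet : (corner A * (S : Matrix (Fin m) (Fin m) F) * corner A').det = 1 := by
        rw [Matrix.det_mul, Matrix.det_mul, S.2, mul_one, ← Matrix.det_mul, hcc, Matrix.det_one]
      refine ⟨(⟨corner A * (S : Matrix (Fin m) (Fin m) F) * corner A', hdet⟩ :
        Matrix.SpecialLinearGroup (Fin m) F), ?_⟩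
      apply Units.ext
      show emb (corner A * (S : Matrix (Fin m) (Fin m) F) * corner A') = _
      have hval : (((g * k * g⁻¹ : C) : Matrix.GeneralLinearGroup (Fin (m + 1)) F) :
          Matrix (Fin (m + 1)) (Fin (m + 1)) F) = A * emb (S : Matrix (Fin m) (Fin m) F) * A' := by
        rw [Subgroup.coe_mul, Subgroup.coe_mul, Units.val_mul, Units.val_mul, ← hS, phi_val]
      rw [hval]
      have hbd : IsBD (A * emb (S : Matrix (Fin m) (Fin m) F) * A') :=
        isBD_mul (isBD_mul hg (isBD_emb _)) hg'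
      have h1 := eq_emb_of_isBD hbd (by
        rw [mul_zero_zero (isBD_mul hg (isBD_emb _)), mul_zero_zero hg, emb_zero_zero, mul_one,
          h00])
      rw [corner_mul (isBD_mul hg (isBD_emb _)), corner_mul hg, corner_emb] at h1
      exact h1.symm
    have hKq : IsQuasisimple Kc := by
      refine Cfsg.Agent.Lib.Helper22.isQuasisimple_of_mulEquiv
        ((Subgroup.subgroupOfEquivOfLe hK0C).trans
          (MonoidHom.ofInjective (phi_injective (F := F) (m := m))).symm) hq
    have hfin : Finite C := inferInstance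
    have hne : Kc.map (QuotientGroup.mk' (oddCore C)) ≠ ⊥ := by
      intro hbot
      obtain ⟨S, hS⟩ := exists_involution h2 hm
      have hz : phi S ∈ C := hK0C ⟨S, rfl⟩
      have hzK : (⟨phi S, hz⟩ : C) ∈ Kc := by
        rw [hKc, Subgroup.mem_subgroupOf]
        exact ⟨S, rfl⟩
      have hzO : (⟨phi S, hz⟩ : C) ∈ oddCore C := by
        have h1 : QuotientGroup.mk' (oddCore C) ⟨phi S, hz⟩ ∈
            Kc.map (QuotientGroup.mk' (oddCore C)) := Subgroup.mem_map_of_mem _ hzK
        rw [hbot, Subgroup.mem_bot] at h1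
        exact (QuotientGroup.eq_one_iff _).mp h1
      have hord : orderOf (⟨phi S, hz⟩ : C) = 2 := by
        rw [← hS, ← orderOf_injective phi phi_injective S]
        exact (Subgroup.orderOf_mk _ _)
      have hdvd : 2 ∣ Nat.card (oddCore C) := by
        rw [← hord]
        exact Subgroup.orderOf_dvd_natCard _ hzO
      have hcop : (Nat.card (oddCore C)).Coprime 2 :=
        Cfsg.Agent.Lib.Helper34.card_pPrimeCore_coprime 2 C
      have := Nat.Coprime.eq_one_of_dvd hcop.symm hdvd
      omega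
    exact ⟨Kc.map (QuotientGroup.mk' (oddCore C)),
      (Subgroup.Normal.isSubnormal hKcN).map (QuotientGroup.mk'_surjective _),
      Cfsg.Agent.Lib.Helper22.isQuasisimple_map _ hKq hne⟩

end Cfsg.Agent.Lib.Helper3.GLComp
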