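import Mathlib

/-!
Package P4 of the S4573 team project (helper74): Fourier inversion on a finite abelian
quotient (helper3).
-/

set_option autoImplicit false

namespace Cfsg.Agent.Lib.Helper74.MG

theorem exists_hom_sum_ne_zero {K A : Type*} [Group K] [Fintype K] [Group A] [Finite A]
    (hA : ∀ a b : A, a * b = b * a) (r : K →* A) (F : K → ℂ)
    (hF : ∑ k : K, (r.ker : Set K).indicator F k ≠ 0) :
    ∃ μ : A →* ℂˣ, ∑ k : K, ((μ (r k) : ℂˣ) : ℂ) * F k ≠ 0 := by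
  classical
  by_contra hcon
  push Not at hcon
  let _ : CommGroup A := { (inferInstance : Group A) with mul_comm := hA }
  have : NeZero (Monoid.exponent A) := ⟨Monoid.exponent_ne_zero_of_finite⟩
  have hcard : Nat.card (A →* ℂˣ) = Nat.card A :=
    CommGroup.card_monoidHom_of_hasEnoughRootsOfUnity A ℂ
  have hfin : Finite (A →* ℂˣ) :=
    Nat.finite_of_card_ne_zero (by rw [hcard]; exact Nat.card_pos.ne')
  let _ : Fintype (A →* ℂˣ) := Fintype.ofFinite _
  have horth : ∀ a : A, a ≠ 1 → ∑ μ : A →* ℂˣ, ((μ a : ℂˣ) : ℂ) = 0 := by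
    intro a ha
    obtain ⟨φ, hφ⟩ := CommGroup.exists_apply_ne_one_of_hasEnoughRootsOfUnity A ℂ ha
    have h1 : ∑ μ : A →* ℂˣ, (((φ * μ) a : ℂˣ) : ℂ) = ∑ μ : A →* ℂˣ, ((μ a : ℂˣ) : ℂ) :=
      Fintype.sum_equiv (Equiv.mulLeft φ) _ _ (fun μ => rfl)
    have h2 : ∑ μ : A →* ℂˣ, (((φ * μ) a : ℂˣ) : ℂ) =
        ((φ a : ℂˣ) : ℂ) * ∑ μ : A →* ℂˣ, ((μ a : ℂˣ) : ℂ) := by
      rw [Finset.mul_sum]
      apply Finset.sum_congr rfl
      intro μ _
      rw [MonoidHom.mul_apply, Units.val_mul]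
    have h3 : (((φ a : ℂˣ) : ℂ) - 1) * ∑ μ : A →* ℂˣ, ((μ a : ℂˣ) : ℂ) = 0 := by
      rw [sub_mul, one_mul, ← h2, h1, sub_self]
    rcases mul_eq_zero.mp h3 with h4 | h4
    · exfalso
      apply hφ
      apply Units.ext
      rw [Units.val_one]
      exact sub_eq_zero.mp h4
    · exact h4
  have htot : ∑ μ : A →* ℂˣ, ∑ k : K, ((μ (r k) : ℂˣ) : ℂ) * F k = 0 :=
    Finset.sum_eq_zero (fun μ _ => hcon μ)
  rw [Finset.sum_comm] at htot
  have h5 : ∀ k : K, ∑ μ : A →* ℂˣ, ((μ (r k) : ℂˣ) : ℂ) * F k =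
      (Nat.card A : ℂ) * (r.ker : Set K).indicator F k := by
    intro k
    rw [← Finset.sum_mul]
    by_cases hk : k ∈ r.ker
    · have hk1 : r k = 1 := hk
      have hmem : k ∈ (r.ker : Set K) := hk
      rw [Set.indicator_of_mem hmem, hk1]
      congr 1
      have h6 : ∀ μ : A →* ℂˣ, ((μ 1 : ℂˣ) : ℂ) = 1 := fun μ => by rw [map_one, Units.val_one]
      rw [Finset.sum_congr rfl (fun μ _ => h6 μ), Finset.sum_const, Finset.card_univ,
        nsmul_eq_mul, mul_one, ← hcard, Nat.card_eq_fintype_card]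
    · have hmem : k ∉ (r.ker : Set K) := hk
      have hk1 : r k ≠ 1 := hk
      rw [Set.indicator_of_notMem hmem, horth (r k) hk1, zero_mul, mul_zero]
  rw [Finset.sum_congr rfl (fun k _ => h5 k), ← Finset.mul_sum] at htot
  rcases mul_eq_zero.mp htot with h7 | h7
  · have : (Nat.card A : ℂ) ≠ 0 := by exact_mod_cast Nat.card_pos.ne'
    exact this h7
  · exact hF h7

end Cfsg.Agent.Lib.Helper74.MG
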