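import Mathlib
import Cfsg.Prelude.Def_Characters
import Cfsg.Agent.Lib.Helper3.CharValues
import Cfsg.Agent.Lib.Helper75.CharDecomp
import Cfsg.Agent.Lib.Helper80.CharKer

/-!
Package P5 of the S4573 team project (helper74): a character with the same degree as one of
its irreducible constituents equals that constituent (helper3).
-/

set_option autoImplicit false

namespace Cfsg.Agent.Lib.Helper74.MG

universe u

theorem eq_irr_of_inner_ne_zero {G : Type u} [Group G] [Fintype G] {ψ χ : G → ℂ}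
    (hψ : Cfsg.IsCharacter G ψ) (hχ : Cfsg.IsIrrCharacter G χ)
    (h : Cfsg.classInner ψ χ ≠ 0) (hdeg : ψ 1 = χ 1) : ψ = χ := by
  classical
  have : Fintype (Cfsg.IrrCharacter G) := Fintype.ofFinite _
  obtain ⟨m, hm, hsum⟩ := Cfsg.Agent.Lib.Helper75.char_eq_sum_irr hψ
  set χ' : Cfsg.IrrCharacter G := ⟨χ, hχ⟩ with hχ'
  have hmχ : m χ' ≠ 0 := by
    intro h0
    apply h
    have := hm χ'
    rw [h0] at this
    simpa using this
  -- degrees
  have hdegsum : (Cfsg.charDegree χ : ℂ) =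
      ∑ φ : Cfsg.IrrCharacter G, (m φ : ℂ) * (Cfsg.charDegree (φ : G → ℂ) : ℂ) := by
    rw [← Cfsg.Agent.Lib.Helper80.char_one_eq_charDegree
      (Cfsg.Agent.Lib.Helper80.isCharacter_of_isIrrCharacter hχ), ← hdeg]
    conv_lhs => rw [hsum]
    rw [Finset.sum_apply]
    apply Finset.sum_congr rfl
    intro φ _
    rw [Pi.smul_apply, smul_eq_mul, Cfsg.Agent.Lib.Helper80.char_one_eq_charDegree
      (Cfsg.Agent.Lib.Helper80.isCharacter_of_isIrrCharacter φ.2)]
  have hdegN : Cfsg.charDegree χ =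
      ∑ φ : Cfsg.IrrCharacter G, m φ * Cfsg.charDegree (φ : G → ℂ) := by
    have : ((Cfsg.charDegree χ : ℕ) : ℂ) =
        ((∑ φ : Cfsg.IrrCharacter G, m φ * Cfsg.charDegree (φ : G → ℂ) : ℕ) : ℂ) := by
      rw [hdegsum]
      push_cast
      rfl
    exact_mod_cast this
  have hpos : ∀ φ : Cfsg.IrrCharacter G, 0 < Cfsg.charDegree (φ : G → ℂ) :=
    fun φ => Cfsg.Agent.Lib.Helper80.charDegree_pos φ.2
  rw [← Finset.add_sum_erase Finset.univ _ (Finset.mem_univ χ')] at hdegN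
  have hχdeg : Cfsg.charDegree ((χ' : Cfsg.IrrCharacter G) : G → ℂ) = Cfsg.charDegree χ := rfl
  rw [hχdeg] at hdegN
  have hposχ : 0 < Cfsg.charDegree χ := Cfsg.Agent.Lib.Helper80.charDegree_pos hχ
  have hge : Cfsg.charDegree χ ≤ m χ' * Cfsg.charDegree χ :=
    Nat.le_mul_of_pos_left _ (Nat.pos_of_ne_zero hmχ)
  have hrest : ∑ φ ∈ Finset.univ.erase χ', m φ * Cfsg.charDegree (φ : G → ℂ) = 0 := by omega
  have hm1 : m χ' = 1 := by
    have h2 : m χ' * Cfsg.charDegree χ = 1 * Cfsg.charDegree χ := by omega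
    exact Nat.eq_of_mul_eq_mul_right hposχ h2
  have hm0 : ∀ φ : Cfsg.IrrCharacter G, φ ≠ χ' → m φ = 0 := by
    intro φ hφ
    have h3 := (Finset.sum_eq_zero_iff.mp hrest) φ (Finset.mem_erase.mpr ⟨hφ, Finset.mem_univ φ⟩)
    rcases Nat.mul_eq_zero.mp h3 with h4 | h4
    · exact h4
    · exact absurd h4 (hpos φ).ne'
  rw [hsum, ← Finset.add_sum_erase Finset.univ _ (Finset.mem_univ χ'), hm1]
  rw [Finset.sum_eq_zero, add_zero, Nat.cast_one, one_smul]
  intro φ hφ
  rw [hm0 φ (Finset.ne_of_mem_erase hφ), Nat.cast_zero, zero_smul]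

end Cfsg.Agent.Lib.Helper74.MG
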