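import Mathlib
import Cfsg.Prelude.Def_Characters
import Cfsg.Agent.Lib.Helper3.CharValues
import Cfsg.Agent.Lib.Helper80.CharKer

/-!
Package P6 of the S4573 team project (helper74): a shift-invariant product of irreducible
characters has equal factors (helper3).
-/

set_option autoImplicit false

namespace Cfsg.Agent.Lib.Helper74.MG

universe u

open scoped ComplexConjugate

theorem irr_family_const {Q M : Type u} [Group Q] [Fintype Q] [Group M] [Finite M]
    (θ' : Q → M → ℂ) (hθ' : ∀ q, Cfsg.IsIrrCharacter M (θ' q))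
    (hinv : ∀ (c : Q) (f : Q → M), ∏ q, θ' q (f (c⁻¹ * q)) = ∏ q, θ' q (f q)) :
    ∀ q q' : Q, θ' q = θ' q' := by
  classical
  have : Fintype M := Fintype.ofFinite M
  intro q q'
  by_contra hne
  have h1 : ∀ x, θ' x 1 ≠ 0 := fun x => Cfsg.Agent.Lib.Helper80.char_one_ne_zero (hθ' x)
  have hb0 : (∏ x ∈ Finset.univ.erase q, θ' x 1) ≠ 0 :=
    Finset.prod_ne_zero_iff.mpr (fun x _ => h1 x)
  have key : ∀ m : M, θ' q' m * (∏ x ∈ Finset.univ.erase q', θ' x 1) =
      θ' q m * (∏ x ∈ Finset.univ.erase q, θ' x 1) := by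
    intro m
    obtain ⟨f, hfq, hfne⟩ : ∃ f : Q → M, f q = m ∧ ∀ x, x ≠ q → f x = 1 :=
      ⟨fun x => if x = q then m else 1, by simp, fun x hx => by simp [hx]⟩
    have h := hinv (q' * q⁻¹) f
    rw [← Finset.mul_prod_erase Finset.univ _ (Finset.mem_univ q'),
      ← Finset.mul_prod_erase Finset.univ (fun x => θ' x (f x)) (Finset.mem_univ q)] at h
    have e1 : (q' * q⁻¹)⁻¹ * q' = q := by group
    rw [e1, hfq] at h
    have e2 : ∏ x ∈ Finset.univ.erase q', θ' x (f ((q' * q⁻¹)⁻¹ * x)) =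
        ∏ x ∈ Finset.univ.erase q', θ' x 1 := by
      apply Finset.prod_congr rfl
      intro x hx
      have hxne : x ≠ q' := Finset.ne_of_mem_erase hx
      have hx2 : (q' * q⁻¹)⁻¹ * x ≠ q := by
        intro h'
        apply hxne
        have h3 : x = (q' * q⁻¹) * ((q' * q⁻¹)⁻¹ * x) := by group
        rw [h3, h']
        group
      rw [hfne _ hx2]
    have e3 : ∏ x ∈ Finset.univ.erase q, θ' x (f x) =
        ∏ x ∈ Finset.univ.erase q, θ' x 1 := by
      apply Finset.prod_congr rfl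
      intro x hx
      rw [hfne _ (Finset.ne_of_mem_erase hx)]
    rw [e2, e3] at h
    exact h
  have hinner : Cfsg.classInner (θ' q') (θ' q) * (∏ x ∈ Finset.univ.erase q', θ' x 1) =
      Cfsg.classInner (θ' q) (θ' q) * (∏ x ∈ Finset.univ.erase q, θ' x 1) := by
    unfold Cfsg.classInner
    rw [mul_assoc, mul_assoc, Finset.sum_mul, Finset.sum_mul]
    congr 1
    apply Finset.sum_congr rfl
    intro g _
    rw [mul_right_comm, key g, mul_right_comm]
  rw [Cfsg.Agent.Lib.Helper3.classInner_irr_ne (hθ' q') (hθ' q) (fun h => hne h.symm),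
    Cfsg.Agent.Lib.Helper3.classInner_irr_self (hθ' q), zero_mul, one_mul] at hinner
  exact hb0 hinner.symm

end Cfsg.Agent.Lib.Helper74.MG
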