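import Mathlib
import Cfsg.Prelude.Def_Characters
import Cfsg.Agent.S0136
import Cfsg.Agent.Lib.Helper3.CharDecomp
import Cfsg.Agent.Lib.Helper3.Burnside
import Cfsg.Agent.Lib.Helper3.IndFun
import Cfsg.Agent.Lib.Helper75.CharInd

set_option autoImplicit false

namespace Cfsg.Agent.Lib.Helper3

open scoped ComplexConjugate

universe u

variable {G : Type u} [Group G] [Fintype G]

/-- An element on which the permutation character `(1_H)^G` takes its degree lies in `H`. -/
theorem mem_of_indFun_one_eq (H : Subgroup G) {g : G}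
    (h : Cfsg.indFun H (fun _ => (1 : ℂ)) g = Cfsg.indFun H (fun _ => (1 : ℂ)) 1) : g ∈ H := by
  classical
  unfold Cfsg.indFun at h
  have hH : (Nat.card H : ℂ) ≠ 0 := by exact_mod_cast Nat.card_pos.ne'
  have h2 := mul_left_cancel₀ (inv_ne_zero hH) h
  have e1 : ∀ y : G, Cfsg.extendByZero H (fun _ => (1 : ℂ)) y = if y ∈ H then 1 else 0 := by
    intro y
    by_cases hy : y ∈ H
    · rw [if_pos hy, extendByZero_of_mem H _ hy]
    · rw [if_neg hy, extendByZero_of_not_mem H _ hy]
  simp only [e1] at h2
  rw [Finset.sum_boole, Finset.sum_boole] at h2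
  have h3 : (Finset.univ.filter (fun x : G => x⁻¹ * g * x ∈ H)).card =
      (Finset.univ.filter (fun x : G => x⁻¹ * 1 * x ∈ H)).card := by exact_mod_cast h2
  have h4 : (Finset.univ.filter (fun x : G => x⁻¹ * 1 * x ∈ H)) = Finset.univ := by
    apply Finset.filter_true_of_mem
    intro x _
    simp [H.one_mem]
  rw [h4] at h3
  have h5 := Finset.card_filter_eq_iff.mp h3 1 (Finset.mem_univ 1)
  simpa using h5

/-- A normal subgroup contained in the kernel of a linear character `lam` of `H` lies in the
kernel of the induced function. -/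
theorem indFun_eq_one_of_normal (H : Subgroup G) (lam : H →* ℂˣ) (N : Subgroup G)
    [hN : N.Normal] (hNk : ∀ n ∈ N, ∃ hn : n ∈ H, lam ⟨n, hn⟩ = 1) {g : G} (hg : g ∈ N) :
    Cfsg.indFun H (fun h => (lam h : ℂ)) g = Cfsg.indFun H (fun h => (lam h : ℂ)) 1 := by
  unfold Cfsg.indFun
  congr 1
  refine Finset.sum_congr rfl (fun x _ => ?_)
  have h1 : x⁻¹ * g * x ∈ N := by
    have := hN.conj_mem g hg x⁻¹
    rwa [inv_inv] at this
  obtain ⟨hn, hl⟩ := hNk _ h1
  have h2 : x⁻¹ * 1 * x = 1 := by group
  rw [extendByZero_of_mem H _ hn, h2, extendByZero_of_mem H _ H.one_mem, hl]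
  have h3 : (⟨1, H.one_mem⟩ : H) = 1 := rfl
  rw [h3, map_one]

/-- **Taketa's theorem**: M-groups are solvable. -/
theorem taketa (hM : ∀ χ : G → ℂ, Cfsg.IsIrrCharacter G χ →
    ∃ (H : Subgroup G) (lam : H →* ℂˣ), χ = Cfsg.indFun H (fun h => (lam h : ℂ))) :
    Group.IsSolvable G := by
  classical
  have := Fintype.ofFinite (Cfsg.IrrCharacter G)
  have hdeg : ∀ ψ : Cfsg.IrrCharacter G, ∃ n : ℕ, (ψ : G → ℂ) 1 = n := by
    intro ψ
    obtain ⟨n, ρ, -, h⟩ := ψ.2
    refine ⟨n, ?_⟩
    rw [← h, Representation.char_one]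
    simp
  choose deg hdeg using hdeg
  let one : Cfsg.IrrCharacter G := ⟨fun _ => 1, isIrrCharacter_one⟩
  have hdeg1 : deg one = 1 := by
    have h := hdeg one
    have h' : (1 : ℂ) = deg one := h
    exact_mod_cast h'.symm
  have key : ∀ d : ℕ, ∃ n : ℕ, ∀ χ : Cfsg.IrrCharacter G, deg χ < d →
      ∀ g ∈ derivedSeries G n, (χ : G → ℂ) g = (χ : G → ℂ) 1 := by
    intro d
    induction d with
    | zero => exact ⟨0, fun χ h => absurd h (Nat.not_lt_zero _)⟩
    | succ d ih =>
      obtain ⟨n, hn⟩ := ih
      refine ⟨n + 1, fun χ hχ g hg => ?_⟩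
      have hle : derivedSeries G (n + 1) ≤ derivedSeries G n :=
        derivedSeries_antitone G (Nat.le_succ n)
      by_cases hlt : deg χ < d
      · exact hn χ hlt g (hle hg)
      have hd : deg χ = d := by omega
      obtain ⟨H, lam, hχ'⟩ := hM χ χ.2
      have hidx : H.index = d := by
        have h1 := hdeg χ
        rw [hχ', Cfsg.Agent.Lib.Helper75.indFun_one] at h1
        simp only [map_one, Units.val_one, mul_one] at h1
        rw [← hd]
        exact_mod_cast h1
      have hsub : derivedSeries G n ≤ H := by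
        by_cases htop : H = ⊤
        · rw [htop]; exact le_top
        have hd2 : 2 ≤ d := by
          have h0 : H.index ≠ 0 := Subgroup.index_ne_zero_of_finite
          have h1 : H.index ≠ 1 := fun h => htop (Subgroup.index_eq_one.mp h)
          omega
        intro x hx
        apply mem_of_indFun_one_eq H
        have hI : Cfsg.IsCharacter G (Cfsg.indFun H (fun _ => (1 : ℂ))) :=
          Cfsg.Agent.Lib.Helper75.isCharacter_indFun H (isCharacter_of_irr isIrrCharacter_one)
        obtain ⟨m, hm⟩ := exists_mult_of_isCharacter hI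
        have hm1 : m one = 1 := by
          have h1 := pair_sum_irr (fun ψ => (m ψ : ℂ)) one
          rw [← hm, ← classInner_eq_pair _ (isCharacter_of_irr one.2),
            frobenius_reciprocity H _ _
              (isClassFunction_of_isCharacter (isCharacter_of_irr one.2))] at h1
          have h2 : Cfsg.classInner (fun _ : H => (1 : ℂ)) (fun h : H => (one : G → ℂ) h) = 1 :=
            classInner_irr_self (isIrrCharacter_one (G := H))
          rw [h2] at h1
          exact_mod_cast h1.symm
        have hsum : d = ∑ ψ : Cfsg.IrrCharacter G, m ψ * deg ψ := by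
          have h1 := congrFun hm 1
          rw [Cfsg.Agent.Lib.Helper75.indFun_one, hidx] at h1
          simp only [mul_one, Finset.sum_apply, Pi.smul_apply, smul_eq_mul, hdeg] at h1
          exact_mod_cast h1
        have hcons : ∀ ψ : Cfsg.IrrCharacter G, m ψ ≠ 0 → deg ψ < d := by
          intro ψ hψ
          by_cases h1 : ψ = one
          · rw [h1, hdeg1]; omega
          · have h2 : m ψ * deg ψ + m one * deg one ≤
                ∑ ψ : Cfsg.IrrCharacter G, m ψ * deg ψ := by
              rw [← Finset.add_sum_erase Finset.univ _ (Finset.mem_univ ψ)]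
              apply Nat.add_le_add_left
              exact Finset.single_le_sum (f := fun ψ => m ψ * deg ψ) (fun _ _ => Nat.zero_le _)
                (Finset.mem_erase.mpr ⟨Ne.symm h1, Finset.mem_univ _⟩)
            rw [← hsum, hm1, hdeg1] at h2
            have h3 : deg ψ ≤ m ψ * deg ψ := Nat.le_mul_of_pos_left _ (Nat.pos_of_ne_zero hψ)
            omega
        rw [hm]
        simp only [Finset.sum_apply, Pi.smul_apply, smul_eq_mul]
        refine Finset.sum_congr rfl (fun ψ _ => ?_)
        by_cases hψ : m ψ = 0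
        · rw [hψ]; simp
        · rw [hn ψ (hcons ψ hψ) x hx]
      have hN : (derivedSeries G (n + 1)).Normal := derivedSeries_normal G (n + 1)
      have hker : ∀ y ∈ derivedSeries G (n + 1), ∃ hy : y ∈ H, lam ⟨y, hy⟩ = 1 := by
        have h1 : derivedSeries G (n + 1) ≤ (lam.ker).map H.subtype := by
          rw [derivedSeries_succ]
          refine (Subgroup.commutator_mono hsub hsub).trans ?_
          rw [Subgroup.commutator_le]
          intro a ha b hb
          let a' : H := ⟨a, ha⟩
          let b' : H := ⟨b, hb⟩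
          refine ⟨a' * b' * a'⁻¹ * b'⁻¹, ?_, rfl⟩
          show a' * b' * a'⁻¹ * b'⁻¹ ∈ lam.ker
          rw [MonoidHom.mem_ker, map_mul, map_mul, map_mul, map_inv, map_inv]
          rw [mul_comm (lam a') (lam b'), mul_inv_cancel_right, mul_inv_cancel]
        intro y hy
        obtain ⟨z, hz, rfl⟩ := h1 hy
        exact ⟨z.2, hz⟩
      rw [hχ']
      exact indFun_eq_one_of_normal H lam _ hker hg
  obtain ⟨n, hn⟩ := key (Finset.univ.sup deg + 1)
  rw [Group.isSolvable_def]
  refine ⟨n, ?_⟩
  rw [eq_bot_iff]
  intro g hg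
  rw [Subgroup.mem_bot]
  have h1 : IsConj g 1 := by
    rw [Cfsg.Agent.S0136.result]
    intro χ
    exact hn χ (Nat.lt_succ_of_le (Finset.le_sup (Finset.mem_univ χ))) g hg
  exact isConj_one_left.mp h1

end Cfsg.Agent.Lib.Helper3
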